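import Mathlib
import Cfsg.Agent.S4142
import Cfsg.Agent.S0081
import Cfsg.Agent.S0033
import Cfsg.Agent.OddHalf.NI.SLClosed
import Cfsg.Agent.PermutationGroups.ZassReduction
import Cfsg.Agent.Lib.SylowNormalInf
import Cfsg.Agent.Lib.FrattiniBasic

/-!
# Camina pairs

`(G, N)` is a Camina pair: `N` is normal and every `g ∉ N` is conjugate to all elements of `g N`.

* `pow_eq_one_of_commute` : a `q`-element outside `N` centralises only `q`-elements of `N`;
* `exists_sylow_inf_le_commutator` : `N ⊓ P ≤ P'` for a Sylow `p`-subgroup, if `p ∣ [G : N]`;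
* `hasNormalPComplement` : `N` has a normal `p`-complement for each prime `p ∣ [G : N]` (Tate);
* `isNilpotent_of_not_dvd` : if a prime divides `[G : N]` but not `|N|`, `N` is nilpotent (Thompson);
* `isPGroup_of_isNilpotent` : `N` nilpotent, `p ∣ |N|`, `p ∣ [G : N]` implies that `N` is a `p`-group.
-/

set_option autoImplicit false

namespace Cfsg.Agent.H527.Camina

open Subgroup
open scoped commutatorElement

universe u

/-- The Camina condition. -/
def IsCam {G : Type*} [Group G] (N : Subgroup G) : Prop :=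
  ∀ g : G, g ∉ N → ∀ n ∈ N, ∃ x : G, x * g * x⁻¹ = g * n

variable {G : Type*} [Group G]

theorem IsCam.orderOf_mul {N : Subgroup G} (h : IsCam N) {g n : G} (hg : g ∉ N) (hn : n ∈ N) :
    orderOf (g * n) = orderOf g := by
  obtain ⟨x, hx⟩ := h g hg n hn
  rw [← hx]
  exact orderOf_injective (MulAut.conj x).toMonoidHom (MulAut.conj x).injective g

/-- A `q`-element outside `N` centralises only `q`-elements of `N`. -/
theorem IsCam.pow_eq_one_of_commute [Finite G] {N : Subgroup G} (h : IsCam N) {q : ℕ} (hq : q.Prime)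
    {g x : G} (hg : g ∉ N) {k : ℕ} (hgk : g ^ q ^ k = 1) (hx : x ∈ N) (hc : Commute g x) :
    ∃ j : ℕ, x ^ q ^ j = 1 := by
  obtain ⟨a, m, hm, ho⟩ := Nat.exists_eq_pow_mul_and_not_dvd (orderOf_pos x).ne' q hq.ne_one
  refine ⟨a, ?_⟩
  have hy : orderOf (x ^ q ^ a) = m := by
    rw [orderOf_pow' x (pow_ne_zero _ hq.ne_zero), ho, Nat.gcd_eq_right (Dvd.intro _ rfl)]
    exact Nat.mul_div_cancel_left m (pow_pos hq.pos a)
  have hcop : (orderOf g).Coprime m := by
    obtain ⟨b, _, hb⟩ := (Nat.dvd_prime_pow hq).mp (orderOf_dvd_of_pow_eq_one hgk)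
    rw [hb]
    exact Nat.Coprime.pow_left _ ((Nat.Prime.coprime_iff_not_dvd hq).mpr hm)
  have h1 : orderOf (g * x ^ q ^ a) = orderOf g * m := by
    rw [(hc.pow_right _).orderOf_mul_eq_mul_orderOf_of_coprime (by rw [hy]; exact hcop), hy]
  rw [h.orderOf_mul hg (N.pow_mem hx _)] at h1
  have h2 : m = 1 := by
    have h3 : orderOf g * 1 = orderOf g * m := by rw [mul_one]; exact h1
    exact (Nat.eq_of_mul_eq_mul_left (orderOf_pos g) h3).symm
  rw [h2] at hy
  exact orderOf_eq_one_iff.mp hy

/-- Both numerical forms of the Camina condition. -/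
theorem IsCam.card_centralizer [Finite G] {N : Subgroup G} [N.Normal] (h : IsCam N) {g : G}
    (hg : g ∉ N) :
    Nat.card (centralizer ({g} : Set G)) * Nat.card N =
      Nat.card ((centralizer ({(QuotientGroup.mk g : G ⧸ N)} : Set (G ⧸ N))).comap
        (QuotientGroup.mk' N)) := by
  have h1 := (Cfsg.Agent.S4142.result N).mp h g hg
  set C' := centralizer ({(QuotientGroup.mk g : G ⧸ N)} : Set (G ⧸ N)) with hC'
  set D := C'.comap (QuotientGroup.mk' N) with hD
  rw [h1]
  have h3 : Nat.card D * D.index = Nat.card G := D.card_mul_index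
  have h4 : D.index = C'.index := Subgroup.index_comap_of_surjective _ (QuotientGroup.mk'_surjective N)
  have h5 : Nat.card C' * C'.index = Nat.card (G ⧸ N) := C'.card_mul_index
  have h6 : Nat.card G = Nat.card (G ⧸ N) * Nat.card N := Subgroup.card_eq_card_quotient_mul_card_subgroup N
  have h7 : D.index ≠ 0 := Subgroup.index_ne_zero_of_finite
  apply Nat.eq_of_mul_eq_mul_right (Nat.pos_of_ne_zero h7)
  rw [h3, h6, ← h5, h4]; ring

theorem card_subgroupOf (H K : Subgroup G) : Nat.card (H.subgroupOf K) = Nat.card (H ⊓ K : Subgroup G) := by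
  rw [← Subgroup.subgroupOf_map_subtype]
  exact Nat.card_congr (Subgroup.equivMapOfInjective _ _ K.subtype_injective).toEquiv

/-- `N ⊓ P ≤ P'` for a suitable (hence every) Sylow `p`-subgroup `P` of `G` if `p ∣ [G : N]`. -/
theorem IsCam.exists_sylow_inf_le_commutator [Finite G] {N : Subgroup G} [N.Normal] (h : IsCam N)
    {p : ℕ} [hp : Fact p.Prime] (hpN : p ∣ N.index) :
    ∃ P : Sylow p G, N ⊓ (P : Subgroup G) ≤ ⁅(P : Subgroup G), (P : Subgroup G)⁆ := by
  classical
  let P0 : Sylow p G := default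
  -- an element of `P0` central modulo `N`
  obtain ⟨x, hxP, hxN, hxc⟩ : ∃ x ∈ P0, x ∉ N ∧ ∀ z ∈ P0, x⁻¹ * (z * x * z⁻¹) ∈ N := by
    set Q : Subgroup (G ⧸ N) := (P0 : Subgroup G).map (QuotientGroup.mk' N) with hQ
    have hQp : IsPGroup p Q := P0.isPGroup'.map _
    have hQn : Nontrivial Q := by
      rw [Subgroup.nontrivial_iff_ne_bot]
      intro hbot
      rw [hQ, Subgroup.map_eq_bot_iff, QuotientGroup.ker_mk'] at hbot
      exact P0.not_dvd_index (hpN.trans (Subgroup.index_dvd_of_le hbot))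
    have := hQp.center_nontrivial
    obtain ⟨⟨⟨y, hy⟩, hyc⟩, hy1⟩ := exists_ne (1 : center Q)
    obtain ⟨x, hx, rfl⟩ := hy
    refine ⟨x, hx, ?_, ?_⟩
    · intro hxN
      apply hy1
      apply Subtype.ext
      apply Subtype.ext
      exact (QuotientGroup.eq_one_iff x).mpr hxN
    · intro z hz
      have h1 := Subgroup.mem_center_iff.mp hyc ⟨QuotientGroup.mk' N z, Subgroup.mem_map_of_mem _ hz⟩
      have h2 : (QuotientGroup.mk' N z) * (QuotientGroup.mk' N x) =
        (QuotientGroup.mk' N x) * (QuotientGroup.mk' N z) := congrArg Subtype.val h1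
      rw [← QuotientGroup.eq]
      show QuotientGroup.mk' N x = QuotientGroup.mk' N (z * x * z⁻¹)
      rw [map_mul, map_mul, h2, map_inv]
      group
  set C := centralizer ({x} : Set G) with hC
  set D := (centralizer ({(QuotientGroup.mk x : G ⧸ N)} : Set (G ⧸ N))).comap (QuotientGroup.mk' N) with hD
  have hcard : Nat.card C * Nat.card N = Nat.card D := h.card_centralizer hxN
  have hmemD : ∀ z : G, z ∈ D ↔ x⁻¹ * (z * x * z⁻¹) ∈ N := by
    intro z
    rw [hD, Subgroup.mem_comap, Subgroup.mem_centralizer_singleton_iff, ← QuotientGroup.eq]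
    constructor
    · intro h1
      have h2 : (QuotientGroup.mk (z * x * z⁻¹) : G ⧸ N) = QuotientGroup.mk x := by
        have : (QuotientGroup.mk' N z) * (QuotientGroup.mk x : G ⧸ N) * (QuotientGroup.mk' N z)⁻¹ =
            QuotientGroup.mk x := by
          rw [h1]; group
        exact this
      exact h2.symm
    · intro h1
      have h2 : (QuotientGroup.mk' N z) * (QuotientGroup.mk x : G ⧸ N) * (QuotientGroup.mk' N z)⁻¹ =
            QuotientGroup.mk x := h1.symm
      exact mul_inv_eq_iff_eq_mul.mp h2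
  have hCD : C ≤ D := by
    intro z hz
    rw [hmemD]
    rw [hC, Subgroup.mem_centralizer_singleton_iff] at hz
    rw [hz]
    simp
  have hP0D : (P0 : Subgroup G) ≤ D := fun z hz => (hmemD z).mpr (hxc z hz)
  -- a Sylow subgroup of `C` containing `x`
  have hxC : x ∈ C := by rw [hC, Subgroup.mem_centralizer_singleton_iff]
  obtain ⟨T, hT⟩ : ∃ T : Sylow p C, zpowers (⟨x, hxC⟩ : C) ≤ T := by
    apply IsPGroup.exists_le_sylow
    have h1 : IsPGroup p (zpowers x) := P0.isPGroup'.to_le (by rw [zpowers_le]; exact hxP)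
    obtain ⟨k, hk⟩ := h1 ⟨x, mem_zpowers x⟩
    rintro ⟨y, hy⟩
    obtain ⟨j, rfl⟩ := mem_zpowers_iff.mp hy
    refine ⟨k, ?_⟩
    apply Subtype.ext
    apply Subtype.ext
    have h2 : x ^ p ^ k = 1 := congrArg Subtype.val hk
    show (x ^ j) ^ p ^ k = 1
    rw [← zpow_natCast, ← zpow_mul, mul_comm, zpow_mul, zpow_natCast, h2, one_zpow]
  set T0 : Subgroup G := (T : Subgroup C).map C.subtype with hT0
  have hT0p : IsPGroup p T0 := T.isPGroup'.map _
  have hT0C : T0 ≤ C := Subgroup.map_subtype_le _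
  have hxT0 : x ∈ T0 := ⟨⟨x, hxC⟩, hT (mem_zpowers _), rfl⟩
  obtain ⟨R, hR⟩ : ∃ R : Sylow p D, T0.subgroupOf D ≤ R := by
    apply IsPGroup.exists_le_sylow
    exact hT0p.comap_of_injective D.subtype D.subtype_injective
  -- `R` is a Sylow subgroup of `G`
  have hDG : (Nat.card D).factorization p = (Nat.card G).factorization p := by
    have h1 : ¬ p ∣ D.index := fun h2 => P0.not_dvd_index (h2.trans (Subgroup.index_dvd_of_le hP0D))
    have h2 : Nat.card D * D.index = Nat.card G := D.card_mul_index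
    rw [← h2, Nat.factorization_mul Nat.card_pos.ne' Subgroup.index_ne_zero_of_finite, Finsupp.add_apply,
      Nat.factorization_eq_zero_of_not_dvd h1, add_zero]
  let P : Sylow p G := Sylow.ofCard ((R : Subgroup D).map D.subtype) (by
    rw [Nat.card_congr ((R : Subgroup D).equivMapOfInjective D.subtype D.subtype_injective).toEquiv.symm,
      R.card_eq_multiplicity, hDG])
  have hPR : (P : Subgroup G) = (R : Subgroup D).map D.subtype := rfl
  have hPD : (P : Subgroup G) ≤ D := by rw [hPR]; exact Subgroup.map_subtype_le _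
  have hT0P : T0 ≤ P := by
    intro z hz
    have hzD : z ∈ D := hCD (hT0C hz)
    exact ⟨⟨z, hzD⟩, hR hz, rfl⟩
  have hxP1 : x ∈ (P : Subgroup G) := hT0P hxT0
  -- `C ∩ P = T0`
  have hCP : (P : Subgroup G) ⊓ C = T0 := by
    apply le_antisymm
    · have h1 : IsPGroup p (((P : Subgroup G) ⊓ C).subgroupOf C) :=
        (P.isPGroup'.to_le inf_le_left).comap_of_injective C.subtype C.subtype_injective
      have h2 : (T : Subgroup C) ≤ ((P : Subgroup G) ⊓ C).subgroupOf C := by
        intro z hz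
        refine ⟨hT0P ⟨z, hz, rfl⟩, z.2⟩
      have h3 := T.is_maximal' h1 h2
      intro z hz
      have h4 : (⟨z, hz.2⟩ : C) ∈ ((P : Subgroup G) ⊓ C).subgroupOf C := hz
      rw [h3] at h4
      exact ⟨⟨z, hz.2⟩, h4, rfl⟩
    · exact le_inf hT0P hT0C
  refine ⟨P, ?_⟩
  -- numbers
  have hkey := Cfsg.Agent.S4142.key (N.subgroupOf (P : Subgroup G)) (⟨x, hxP1⟩ : (P : Subgroup G))
  have hcent : Nat.card (centralizer ({(⟨x, hxP1⟩ : (P : Subgroup G))} : Set (P : Subgroup G))) =
      p ^ (Nat.card C).factorization p := by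
    rw [← T.card_eq_multiplicity,
      Nat.card_congr ((T : Subgroup C).equivMapOfInjective C.subtype C.subtype_injective).toEquiv]
    change _ = Nat.card T0
    have h1 : (centralizer ({(⟨x, hxP1⟩ : (P : Subgroup G))} : Set (P : Subgroup G))).map
        (P : Subgroup G).subtype = T0 := by
      rw [← hCP]
      ext z
      constructor
      · rintro ⟨w, hw, rfl⟩
        refine ⟨w.2, ?_⟩
        have hw' : w * ⟨x, hxP1⟩ = ⟨x, hxP1⟩ * w := Subgroup.mem_centralizer_singleton_iff.mp hw
        exact Subgroup.mem_centralizer_singleton_iff.mpr (congrArg Subtype.val hw')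
      · rintro ⟨hz1, hz2⟩
        refine ⟨⟨z, hz1⟩, ?_, rfl⟩
        apply Subgroup.mem_centralizer_singleton_iff.mpr
        apply Subtype.ext
        exact Subgroup.mem_centralizer_singleton_iff.mp hz2
    rw [← h1]
    exact Nat.card_congr (Subgroup.equivMapOfInjective _ _ (P : Subgroup G).subtype_injective).toEquiv
  have htop : centralizer ({(QuotientGroup.mk (⟨x, hxP1⟩ : (P : Subgroup G)) :
      (P : Subgroup G) ⧸ N.subgroupOf (P : Subgroup G))} :
      Set ((P : Subgroup G) ⧸ N.subgroupOf (P : Subgroup G))) = ⊤ := by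
    rw [eq_top_iff]
    intro z _
    obtain ⟨z, rfl⟩ := QuotientGroup.mk_surjective z
    rw [Subgroup.mem_centralizer_singleton_iff, ← QuotientGroup.mk_mul, ← QuotientGroup.mk_mul,
      eq_comm, QuotientGroup.eq, Subgroup.mem_subgroupOf]
    have h1 := (hmemD z).mp (hPD z.2)
    have h2 : (((⟨x, hxP1⟩ : (P : Subgroup G)) * z)⁻¹ * (z * ⟨x, hxP1⟩) : (P : Subgroup G)) =
        (z : G)⁻¹ * (x⁻¹ * (z * x * (z : G)⁻¹)) * ((z : G)⁻¹)⁻¹ := by
      simp only [Subgroup.coe_mul, Subgroup.coe_inv]
      group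
    rw [h2]
    exact (inferInstance : N.Normal).conj_mem _ h1 _
  rw [htop, Subgroup.card_top] at hkey
  have hN1 : Nat.card (N.subgroupOf (P : Subgroup G)) = p ^ (Nat.card N).factorization p := by
    have h1 := Cfsg.Agent.Lib.SylowNormalInf.not_dvd_relIndex P N
    have h2 := Cfsg.Agent.Lib.SylowNormalInf.isPGroup_subgroupOf P N
    have h3 := (h2.toSylow h1).card_eq_multiplicity
    rw [← h3, card_subgroupOf, inf_comm, ← card_subgroupOf]
    rfl
  have hPcard : Nat.card (P : Subgroup G) = p ^ (Nat.card C).factorization p * p ^ (Nat.card N).factorization p := by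
    rw [P.card_eq_multiplicity, ← hDG, ← hcard, Nat.factorization_mul Nat.card_pos.ne' Nat.card_pos.ne',
      Finsupp.add_apply, pow_add]
  have hprod : Nat.card (N.subgroupOf (P : Subgroup G)) *
      Nat.card ((P : Subgroup G) ⧸ N.subgroupOf (P : Subgroup G)) = Nat.card (P : Subgroup G) := by
    rw [mul_comm]
    exact (Subgroup.card_eq_card_quotient_mul_card_subgroup _).symm
  rw [hprod, hPcard, hcent, mul_comm (p ^ (Nat.card C).factorization p)] at hkey
  have hall : Nat.card {n : N.subgroupOf (P : Subgroup G) // ∃ z : (P : Subgroup G),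
      z * ⟨x, hxP1⟩ * z⁻¹ = ⟨x, hxP1⟩ * n} = Nat.card (N.subgroupOf (P : Subgroup G)) := by
    rw [hN1]
    exact Nat.eq_of_mul_eq_mul_right (pow_pos hp.out.pos _) hkey
  have hsurj : Function.Surjective (Subtype.val : {n : N.subgroupOf (P : Subgroup G) //
      ∃ z : (P : Subgroup G), z * ⟨x, hxP1⟩ * z⁻¹ = ⟨x, hxP1⟩ * n} → N.subgroupOf (P : Subgroup G)) :=
    ((Nat.bijective_iff_injective_and_card _).mpr ⟨Subtype.val_injective, hall⟩).2
  rintro n ⟨hnN, hnP⟩
  obtain ⟨⟨m, z, hz⟩, hm⟩ := hsurj ⟨⟨n, hnP⟩, hnN⟩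
  simp only at hm
  rw [hm] at hz
  have hz' : (z : G) * x * (z : G)⁻¹ = x * n := congrArg Subtype.val hz
  have hn : n = ⁅x⁻¹, (z : G)⁆ := by
    rw [commutatorElement_def]
    have : n = x⁻¹ * ((z : G) * x * (z : G)⁻¹) := by rw [hz']; group
    rw [this]; group
  rw [hn]
  exact Subgroup.commutator_mem_commutator ((P : Subgroup G).inv_mem hxP1) z.2

/-- **Tate**: `N` has a normal `p`-complement for each prime `p` dividing `[G : N]`. -/
theorem IsCam.hasNormalPComplement {G : Type u} [Group G] [Finite G] {N : Subgroup G} [N.Normal]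
    (h : IsCam N) {p : ℕ} [hp : Fact p.Prime] (hpN : p ∣ N.index) : Cfsg.HasNormalPComplement p N := by
  obtain ⟨P, hP⟩ := h.exists_sylow_inf_le_commutator hpN
  apply Cfsg.Agent.S0081.result P N
  refine hP.trans ?_
  have h1 := Cfsg.Agent.Lib.FrattiniBasic.commutator_le_frattini P.isPGroup'
  have h2 := Subgroup.map_mono (f := (P : Subgroup G).subtype) h1
  refine le_trans (le_of_eq ?_) h2
  rw [_root_.commutator_def, Subgroup.map_commutator, ← MonoidHom.range_eq_map, Subgroup.range_subtype]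

/-- If a prime divides `[G : N]` but not `|N|`, then `N` is nilpotent (Thompson's theorem). -/
theorem IsCam.isNilpotent_of_not_dvd {G : Type u} [Group G] [Finite G] {N : Subgroup G} [N.Normal]
    (h : IsCam N) {q : ℕ} [hq : Fact q.Prime] (hqN : q ∣ N.index) (hqn : ¬ q ∣ Nat.card N) :
    Group.IsNilpotent N := by
  obtain ⟨g, hg⟩ := exists_prime_orderOf_dvd_card' q (hqN.trans N.index_dvd_card)
  have hgN : g ∉ N := by
    intro hgN
    apply hqn
    rw [← hg, ← Subgroup.orderOf_mk g hgN]
    exact orderOf_dvd_natCard _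
  have hfix : ∀ x : N, MulAut.conjNormal g x = x → x = 1 := by
    intro x hx
    have h1 : Commute g (x : G) := by
      have h2 : g * x * g⁻¹ = x := by
        rw [← MulAut.conjNormal_apply]; exact congrArg Subtype.val hx
      exact mul_inv_eq_iff_eq_mul.mp h2
    obtain ⟨j, hj⟩ := h.pow_eq_one_of_commute hq.out hgN (k := 1)
      (by rw [pow_one, ← hg]; exact pow_orderOf_eq_one g) x.2 h1
    have h3 : (Nat.card N).Coprime (q ^ j) :=
      Nat.Coprime.pow_right _ ((Nat.Prime.coprime_iff_not_dvd hq.out).mpr hqn).symm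
    have h4 : orderOf x ∣ q ^ j := by
      apply orderOf_dvd_of_pow_eq_one
      apply Subtype.ext
      exact hj
    have h5 : orderOf x ∣ 1 := by
      rw [← Nat.coprime_iff_gcd_eq_one.mp h3]
      exact Nat.dvd_gcd (orderOf_dvd_natCard x) h4
    exact orderOf_eq_one_iff.mp (Nat.dvd_one.mp h5)
  rcases subsingleton_or_nontrivial N with hs | hn
  · infer_instance
  refine Cfsg.Agent.S0033.result (MulAut.conjNormal g) ?_ q hq.out ?_
  · intro x hx
    exact hfix x hx
  · have h1 : orderOf (MulAut.conjNormal g : MulAut N) ∣ q := by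
      rw [← hg]
      exact orderOf_map_dvd _ g
    rcases (Nat.dvd_prime hq.out).mp h1 with h2 | h2
    · exfalso
      rw [orderOf_eq_one_iff] at h2
      obtain ⟨x, hx⟩ := exists_ne (1 : N)
      apply hx
      apply hfix
      rw [h2]
      rfl
    · exact h2

/-- In a finite nilpotent group a `p`-element and an `r`-element commute, `p ≠ r`. -/
theorem commute_of_isNilpotent {N : Type*} [Group N] [Finite N] [Group.IsNilpotent N] {p r : ℕ}
    [hp : Fact p.Prime] [hr : Fact r.Prime] (hpr : p ≠ r) {x y : N} {i j : ℕ} (hx : x ^ p ^ i = 1)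
    (hy : y ^ r ^ j = 1) : Commute x y := by
  have h1 : IsPGroup p (zpowers x) := by
    rintro ⟨z, hz⟩
    obtain ⟨k, rfl⟩ := mem_zpowers_iff.mp hz
    refine ⟨i, Subtype.ext ?_⟩
    show (x ^ k) ^ p ^ i = 1
    rw [← zpow_natCast, ← zpow_mul, mul_comm, zpow_mul, zpow_natCast, hx, one_zpow]
  have h2 : IsPGroup r (zpowers y) := by
    rintro ⟨z, hz⟩
    obtain ⟨k, rfl⟩ := mem_zpowers_iff.mp hz
    refine ⟨j, Subtype.ext ?_⟩
    show (y ^ k) ^ r ^ j = 1
    rw [← zpow_natCast, ← zpow_mul, mul_comm, zpow_mul, zpow_natCast, hy, one_zpow]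
  obtain ⟨P, hP⟩ := h1.exists_le_sylow
  obtain ⟨R, hR⟩ := h2.exists_le_sylow
  exact Subgroup.commute_of_normal_of_disjoint (P : Subgroup N) (R : Subgroup N) inferInstance
    inferInstance (IsPGroup.disjoint_of_ne p r hpr _ _ P.isPGroup' R.isPGroup') x y
    (hP (mem_zpowers x)) (hR (mem_zpowers y))

/-- `K ≤ [K, P]` forces `K = 1` in a nilpotent group. -/
theorem eq_bot_of_le_commutator {P : Type*} [Group P] [Group.IsNilpotent P] {K : Subgroup P}
    (h : K ≤ ⁅K, (⊤ : Subgroup P)⁆) : K = ⊥ := by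
  obtain ⟨n, hn⟩ := Subgroup.nilpotent_iff_lowerCentralSeries.mp (inferInstance : Group.IsNilpotent P)
  have h1 : ∀ m : ℕ, K ≤ (⊤ : Subgroup P).lowerCentralSeries m := by
    intro m
    induction m with
    | zero => exact le_top
    | succ m ih => exact h.trans (Subgroup.commutator_mono ih le_rfl)
  have h2 := h1 n
  rwa [hn, le_bot_iff] at h2

/-- The nilpotent case: `N` nilpotent, `p ∣ |N|`, `p ∣ [G : N]` implies that `N` is a `p`-group. -/
theorem IsCam.isPGroup_of_isNilpotent {G : Type u} [Group G] [Finite G] {N : Subgroup G} [N.Normal]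
    (h : IsCam N) (hnil : Group.IsNilpotent N) {p : ℕ} [hp : Fact p.Prime] (hpn : p ∣ Nat.card N)
    (hpN : p ∣ N.index) : ∀ r : ℕ, r.Prime → r ∣ Nat.card N → r = p := by
  intro r hr hrN
  by_contra hrp
  have : Fact r.Prime := ⟨hr⟩
  obtain ⟨P, hP⟩ := h.exists_sylow_inf_le_commutator hpN
  -- the abelian `r`-subgroup
  let R : Sylow r N := default
  have hRne : Nontrivial R := by
    rw [← Finite.one_lt_card_iff_nontrivial]
    have h1 : r ∣ Nat.card (R : Subgroup N) := R.dvd_card_of_dvd_card hrN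
    exact lt_of_lt_of_le hr.one_lt (Nat.le_of_dvd Nat.card_pos h1)
  have hRc : (R : Subgroup N).Characteristic := R.characteristic_of_normal inferInstance
  have hZne : Nontrivial (center R) := R.isPGroup'.center_nontrivial
  set Z1 : Subgroup N := (center R).map (R : Subgroup N).subtype with hZ1
  have hZ1n : Z1.Characteristic := by
    rw [Subgroup.characteristic_iff_map_le]
    intro φ
    have hφR : (R : Subgroup N).map φ.toMonoidHom = R := Subgroup.characteristic_iff_map_eq.mp hRc φ
    rintro _ ⟨z, ⟨⟨w, hwR⟩, hw, rfl⟩, rfl⟩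
    have hφw : φ w ∈ (R : Subgroup N) := by
      rw [← hφR]; exact Subgroup.mem_map_of_mem _ hwR
    refine ⟨⟨φ w, hφw⟩, ?_, rfl⟩
    rw [SetLike.mem_coe, Subgroup.mem_center_iff]
    rintro ⟨y, hy⟩
    rw [← hφR] at hy
    obtain ⟨v, hv, rfl⟩ := hy
    have h2 := Subgroup.mem_center_iff.mp hw ⟨v, hv⟩
    apply Subtype.ext
    show φ v * φ w = φ w * φ v
    have h3 : v * w = w * v := congrArg Subtype.val h2
    rw [← map_mul, h3, map_mul]
  set V : Subgroup G := Z1.map N.subtype with hV
  have hVn : V.Normal := by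
    rw [hV]
    infer_instance
  have hVcomm : ∀ a ∈ V, ∀ b ∈ V, a * b = b * a := by
    rintro _ ⟨_, ⟨⟨a, haR⟩, ha, rfl⟩, rfl⟩ _ ⟨_, ⟨⟨b, hbR⟩, hb, rfl⟩, rfl⟩
    have h2 := Subgroup.mem_center_iff.mp ha ⟨b, hbR⟩
    have h3 : b * a = a * b := congrArg Subtype.val h2
    exact (congrArg Subtype.val h3).symm
  have hVN : V ≤ N := Subgroup.map_subtype_le _
  have hVr : ∀ v ∈ V, ∃ j : ℕ, v ^ r ^ j = 1 := by
    rintro _ ⟨_, ⟨⟨a, haR⟩, ha, rfl⟩, rfl⟩
    obtain ⟨j, hj⟩ := R.isPGroup' ⟨a, haR⟩
    refine ⟨j, ?_⟩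
    have h2 : a ^ r ^ j = 1 := congrArg Subtype.val hj
    exact congrArg Subtype.val h2
  have hVne : Nontrivial V := by
    obtain ⟨z, hz⟩ := exists_ne (1 : center R)
    refine ⟨⟨⟨(((z : R) : N) : G), ⟨_, ⟨_, z.2, rfl⟩, rfl⟩⟩, 1, ?_⟩⟩
    intro h1
    apply hz
    apply Subtype.ext
    apply Subtype.ext
    apply Subtype.ext
    have h2 : (((z : R) : N) : G) = 1 := congrArg Subtype.val h1
    exact h2
  let _ : CommGroup V := { (inferInstance : Group V) with
    mul_comm := fun a b => Subtype.ext (hVcomm a a.2 b b.2) }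
  let φ : (P : Subgroup G) →* MulAut V := (MulAut.conjNormal (H := V)).comp (P : Subgroup G).subtype
  have hφ : ∀ (g : (P : Subgroup G)) (v : V), ((φ g v : V) : G) = g * v * (g : G)⁻¹ := fun g v => rfl
  -- elements of `P` outside `N` act without fixed points
  have hfpf : ∀ (g : (P : Subgroup G)), (g : G) ∉ N → ∀ v : V, φ g v = v → v = 1 := by
    intro g hg v hv
    have h1 : Commute (g : G) (v : G) := by
      have h2 : (g : G) * v * (g : G)⁻¹ = v := by rw [← hφ]; exact congrArg Subtype.val hv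
      exact mul_inv_eq_iff_eq_mul.mp h2
    obtain ⟨k, hk⟩ := P.isPGroup' g
    have hk' : (g : G) ^ p ^ k = 1 := congrArg Subtype.val hk
    obtain ⟨j, hj⟩ := h.pow_eq_one_of_commute hp.out hg hk' (hVN v.2) h1
    obtain ⟨i, hi⟩ := hVr v v.2
    have h2 : orderOf (v : G) ∣ p ^ j := orderOf_dvd_of_pow_eq_one hj
    have h3 : orderOf (v : G) ∣ r ^ i := orderOf_dvd_of_pow_eq_one hi
    have h4 : (p ^ j).Coprime (r ^ i) := Nat.Coprime.pow _ _
      ((Nat.coprime_primes hp.out hr).mpr (fun h => hrp h.symm))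
    have h5 : orderOf (v : G) = 1 := Nat.eq_one_of_dvd_coprimes h4 h2 h3
    exact Subtype.ext (orderOf_eq_one_iff.mp h5)
  have hker : φ.ker = N.subgroupOf (P : Subgroup G) := by
    ext g
    rw [MonoidHom.mem_ker, Subgroup.mem_subgroupOf]
    constructor
    · intro hg
      by_contra hgN
      obtain ⟨v, hv⟩ := exists_ne (1 : V)
      apply hv
      apply hfpf g hgN
      rw [hg]; rfl
    · intro hg
      ext v
      rw [hφ]
      obtain ⟨k, hk⟩ := P.isPGroup' g
      have hk' : (g : G) ^ p ^ k = 1 := congrArg Subtype.val hk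
      obtain ⟨i, hi⟩ := hVr v v.2
      have h1 : Commute (⟨g, hg⟩ : N) ⟨v, hVN v.2⟩ :=
        commute_of_isNilpotent (p := p) (r := r) (fun h => hrp h.symm) (Subtype.ext hk') (Subtype.ext hi)
      have h2 : (g : G) * v = v * g := congrArg Subtype.val h1
      rw [h2]
      simp
  -- `N ∩ P ≠ 1`
  have hne : N.subgroupOf (P : Subgroup G) ≠ ⊥ := by
    intro hbot
    have h1 := Cfsg.Agent.Lib.SylowNormalInf.card_inf_mul_relIndex (P : Subgroup G) N
    have h2 := Cfsg.Agent.Lib.SylowNormalInf.not_dvd_relIndex P N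
    have h3 : Nat.card ((P : Subgroup G) ⊓ N : Subgroup G) = 1 := by
      rw [inf_comm, ← card_subgroupOf, hbot, Subgroup.card_bot]
    rw [h3, one_mul] at h1
    exact h2 (h1 ▸ hpn)
  have hle : φ.ker ≤ commutator (P : Subgroup G) := by
    intro g hg
    rw [hker, Subgroup.mem_subgroupOf] at hg
    have h1 := hP ⟨hg, g.2⟩
    have h2 : (commutator (P : Subgroup G)).map (P : Subgroup G).subtype =
        ⁅(P : Subgroup G), (P : Subgroup G)⁆ := by
      rw [_root_.commutator_def, Subgroup.map_commutator, ← MonoidHom.range_eq_map, Subgroup.range_subtype]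
    rw [← h2] at h1
    obtain ⟨g', hg', hgg⟩ := h1
    have : g' = g := Subtype.ext hgg
    rwa [this] at hg'
  have hPnil : Group.IsNilpotent (P : Subgroup G) := P.isPGroup'.isNilpotent
  -- the quotient
  have hQp : IsPGroup p ((P : Subgroup G) ⧸ φ.ker) := P.isPGroup'.to_quotient _
  let S : Sylow p ((P : Subgroup G) ⧸ φ.ker) := IsPGroup.toSylow (P := ⊤) (hQp.to_subgroup _) (by
    rw [Subgroup.index_top]; exact hp.out.not_dvd_one)
  have hS : (S : Subgroup ((P : Subgroup G) ⧸ φ.ker)) = ⊤ := rfl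
  have hact : ∀ g : (P : Subgroup G) ⧸ φ.ker, g ≠ 1 → ∀ v : V, QuotientGroup.kerLift φ g v = v → v = 1 := by
    intro g hg v hv
    induction g using QuotientGroup.induction_on with | _ g => ?_
    apply hfpf g _ v hv
    intro hgN
    apply hg
    rw [QuotientGroup.eq_one_iff, hker, Subgroup.mem_subgroupOf]
    exact hgN
  rcases Cfsg.Agent.PermutationGroups.ZassReduction.sylow_cyclic_or_quaternion
    (QuotientGroup.kerLift φ) hact p S with hc | ⟨rfl, n, hn, ⟨e⟩⟩
  · -- cyclic
    have hc0 : IsCyclic (⊤ : Subgroup ((P : Subgroup G) ⧸ φ.ker)) := hc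
    have hc' : IsCyclic ((P : Subgroup G) ⧸ φ.ker) :=
      isCyclic_of_surjective (Subgroup.topEquiv (G := (P : Subgroup G) ⧸ φ.ker)).toMonoidHom
        (Subgroup.topEquiv (G := (P : Subgroup G) ⧸ φ.ker)).surjective
    obtain ⟨x, hx⟩ := hc'.exists_generator
    obtain ⟨x, rfl⟩ := QuotientGroup.mk_surjective x
    have h1 : zpowers x ⊔ frattini (P : Subgroup G) = ⊤ := by
      rw [eq_top_iff]
      intro y _
      obtain ⟨k, hk⟩ := mem_zpowers_iff.mp (hx (QuotientGroup.mk y))
      have h2 : (x ^ k)⁻¹ * y ∈ φ.ker := by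
        rw [← QuotientGroup.eq, ← hk]; rfl
      have h3 : (x ^ k)⁻¹ * y ∈ frattini (P : Subgroup G) :=
        Cfsg.Agent.Lib.FrattiniBasic.commutator_le_frattini P.isPGroup' (hle h2)
      have h4 : y = x ^ k * ((x ^ k)⁻¹ * y) := by group
      rw [h4]
      exact Subgroup.mul_mem_sup (zpow_mem (mem_zpowers x) k) h3
    have h2 : zpowers x = ⊤ := frattini_nongenerating h1
    have h3 : commutator (P : Subgroup G) = ⊥ := by
      rw [eq_bot_iff, _root_.commutator_def, Subgroup.commutator_le]
      intro a _ b _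
      have ha : a ∈ zpowers x := h2 ▸ mem_top a
      have hb : b ∈ zpowers x := h2 ▸ mem_top b
      obtain ⟨i, rfl⟩ := mem_zpowers_iff.mp ha
      obtain ⟨j, rfl⟩ := mem_zpowers_iff.mp hb
      rw [Subgroup.mem_bot, commutatorElement_eq_one_iff_mul_comm, ← zpow_add, ← zpow_add, add_comm]
    apply hne
    rw [← hker, eq_bot_iff, ← h3]
    exact hle
  · -- quaternion
    have hn1 : NeZero (2 ^ n) := ⟨pow_ne_zero _ (by norm_num)⟩
    let e' : ((P : Subgroup G) ⧸ φ.ker) ≃* QuaternionGroup (2 ^ n) :=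
      (Subgroup.topEquiv (G := (P : Subgroup G) ⧸ φ.ker)).symm.trans e
    set K := φ.ker with hK
    set K1 : Subgroup (P : Subgroup G) := ⁅K, (⊤ : Subgroup (P : Subgroup G))⁆ with hK1
    have hK1n : K1.Normal := Subgroup.commutator_normal _ _
    have hK1K : K1 ≤ K := Subgroup.commutator_le_left _ _
    let f0 : (P : Subgroup G) →* QuaternionGroup (2 ^ n) := e'.toMonoidHom.comp (QuotientGroup.mk' K)
    have hf0 : ∀ g, f0 g = 1 ↔ g ∈ K := by
      intro g
      show e' (QuotientGroup.mk' K g) = 1 ↔ g ∈ K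
      rw [map_eq_one_iff e' e'.injective]
      exact QuotientGroup.eq_one_iff g
    let f : (P : Subgroup G) ⧸ K1 →* QuaternionGroup (2 ^ n) := QuotientGroup.lift K1 f0 (by
      intro g hg
      exact (hf0 g).mpr (hK1K hg))
    have hfs : Function.Surjective f := by
      intro y
      obtain ⟨g, hg⟩ := e'.surjective y
      obtain ⟨g, rfl⟩ := QuotientGroup.mk_surjective g
      exact ⟨QuotientGroup.mk g, hg⟩
    have hfc : f.ker ≤ center ((P : Subgroup G) ⧸ K1) := by
      intro g hg
      induction g using QuotientGroup.induction_on with | _ g => ?_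
      have hg' : g ∈ K := (hf0 g).mp hg
      rw [Subgroup.mem_center_iff]
      intro y
      induction y using QuotientGroup.induction_on with | _ y => ?_
      rw [← QuotientGroup.mk_mul, ← QuotientGroup.mk_mul, eq_comm, QuotientGroup.eq]
      have h1 : (g * y)⁻¹ * (y * g) = ⁅y⁻¹, g⁻¹⁆ := by
        rw [commutatorElement_def]; group
      rw [h1, ← commutatorElement_inv]
      exact K1.inv_mem (Subgroup.commutator_mem_commutator (K.inv_mem hg') (mem_top _))
    have hKK1 : K ≤ K1 := by
      intro g hg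
      have h1 : (QuotientGroup.mk' K1 g) ∈ _root_.commutator ((P : Subgroup G) ⧸ K1) := by
        have h2 := Subgroup.mem_map_of_mem (QuotientGroup.mk' K1) (hle hg)
        rw [_root_.commutator_def, Subgroup.map_commutator] at h2
        exact Subgroup.commutator_mono le_top le_top h2
      have h2 := Cfsg.Agent.OddHalf.NI.SLClosed.eq_one_of_mem_commutator f hfs hfc h1 ((hf0 g).mpr hg)
      exact (QuotientGroup.eq_one_iff g).mp h2
    have h3 := eq_bot_of_le_commutator hKK1
    apply hne
    rw [← hker]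
    exact h3

/-- The normal `p`-complement of a normal subgroup, as a normal subgroup of the whole group. -/
theorem exists_normal_complement {G : Type*} [Group G] [Finite G] {N : Subgroup G} [N.Normal]
    {p : ℕ} [hp : Fact p.Prime] (h : Cfsg.HasNormalPComplement p N) :
    ∃ M : Subgroup G, M.Normal ∧ M ≤ N ∧ (Nat.card M).Coprime p ∧ ∀ x ∈ N, ∃ a : ℕ, x ^ p ^ a ∈ M := by
  obtain ⟨P, K, hKn, hK⟩ := h
  have hcop : (Nat.card K).Coprime p := by
    have h2 : Nat.card K = (P : Subgroup N).index := hK.index_eq_card.symm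
    rw [h2]
    exact ((Nat.Prime.coprime_iff_not_dvd hp.out).mpr P.not_dvd_index).symm
  have hKidx : K.index = Nat.card P := hK.symm.index_eq_card
  have hpow : ∀ x : N, ∃ a : ℕ, x ^ p ^ a ∈ K := by
    obtain ⟨a, ha⟩ := IsPGroup.iff_card.mp P.isPGroup'
    intro x
    refine ⟨a, ?_⟩
    have ha' : Nat.card P = p ^ a := ha
    rw [← ha', ← hKidx]
    exact K.pow_index_mem x
  have hchar : K.Characteristic := by
    rw [Subgroup.characteristic_iff_map_le]
    rintro φ _ ⟨x, hx, rfl⟩
    obtain ⟨a, ha⟩ := hpow (φ x)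
    have h1 : orderOf (φ x) ∣ Nat.card K := by
      have h2 : orderOf (φ x) = orderOf x := orderOf_injective φ.toMonoidHom φ.injective x
      rw [h2, ← Subgroup.orderOf_mk x hx]
      exact orderOf_dvd_natCard _
    have h3 : (orderOf (φ x)).Coprime (p ^ a) := Nat.Coprime.pow_right _ (hcop.coprime_dvd_left h1)
    -- `φ x` is a power of its `p ^ a`-th power
    obtain ⟨m, hm⟩ := exists_pow_eq_self_of_coprime h3.symm
    show φ x ∈ K
    rw [← hm]
    exact K.pow_mem ha m
  have hMcard : Nat.card (K.map N.subtype) = Nat.card K :=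
    (Nat.card_congr (Subgroup.equivMapOfInjective _ _ N.subtype_injective).toEquiv).symm
  have hMn : (K.map N.subtype).Normal := inferInstance
  refine ⟨K.map N.subtype, hMn, Subgroup.map_subtype_le _, by rwa [hMcard], ?_⟩
  intro y hy
  obtain ⟨a, ha⟩ := hpow ⟨y, hy⟩
  exact ⟨a, ⟨_, ha, rfl⟩⟩

/-- The image of `N` modulo `M` is a `p`-group. -/
theorem isPGroup_map {G : Type*} [Group G] {N M : Subgroup G} [M.Normal] {p : ℕ}
    (h : ∀ x ∈ N, ∃ a : ℕ, x ^ p ^ a ∈ M) : IsPGroup p (N.map (QuotientGroup.mk' M)) := by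
  rintro ⟨_, ⟨y, hy, rfl⟩⟩
  obtain ⟨a, ha⟩ := h y hy
  refine ⟨a, Subtype.ext ?_⟩
  show (QuotientGroup.mk' M y) ^ p ^ a = 1
  rw [← map_pow]
  exact (QuotientGroup.eq_one_iff _).mpr ha

/-- A prime dividing `|N|` but not `|M|` divides the order of the image of `N` modulo `M`. -/
theorem dvd_card_map {G : Type*} [Group G] [Finite G] {N M : Subgroup G} [M.Normal] {p : ℕ}
    [hp : Fact p.Prime] (hN : p ∣ Nat.card N) (hM : (Nat.card M).Coprime p) :
    p ∣ Nat.card (N.map (QuotientGroup.mk' M)) := by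
  obtain ⟨x, hx⟩ := exists_prime_orderOf_dvd_card' p hN
  have hxM : (x : G) ∉ M := by
    intro hxM
    have h1 : orderOf (x : G) ∣ Nat.card M := by
      rw [← Subgroup.orderOf_mk (x : G) hxM]
      exact orderOf_dvd_natCard _
    rw [Subgroup.orderOf_coe, hx] at h1
    exact (Nat.Prime.coprime_iff_not_dvd hp.out).mp hM.symm h1
  have h2 : orderOf (⟨QuotientGroup.mk' M x, Subgroup.mem_map_of_mem _ x.2⟩ :
      N.map (QuotientGroup.mk' M)) = p := by
    apply orderOf_eq_prime
    · apply Subtype.ext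
      show (QuotientGroup.mk' M (x : G)) ^ p = 1
      have h3 : (x : G) ^ p = 1 := by
        have := pow_orderOf_eq_one x
        rw [hx] at this
        exact congrArg Subtype.val this
      rw [← map_pow, h3, map_one]
    · intro h3
      apply hxM
      have h4 : QuotientGroup.mk' M (x : G) = 1 := congrArg Subtype.val h3
      exact (QuotientGroup.eq_one_iff _).mp h4
  rw [← h2]
  exact orderOf_dvd_natCard _

/-- An element outside a normal subgroup has a power of prime power order outside it. -/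
theorem exists_prime_pow {G : Type*} [Group G] [Finite G] {N : Subgroup G} [N.Normal] {g : G}
    (hg : g ∉ N) : ∃ q : ℕ, q.Prime ∧ q ∣ N.index ∧ ∃ m : ℕ, g ^ m ∉ N ∧ ∃ k : ℕ, (g ^ m) ^ q ^ k = 1 := by
  have h1 : orderOf (QuotientGroup.mk g : G ⧸ N) ≠ 1 := by
    intro h2
    exact hg ((QuotientGroup.eq_one_iff g).mp (orderOf_eq_one_iff.mp h2))
  obtain ⟨q, hq, hqd⟩ := Nat.exists_prime_and_dvd h1
  refine ⟨q, hq, hqd.trans (orderOf_dvd_natCard _), ?_⟩
  obtain ⟨a, m, hm, ho⟩ := Nat.exists_eq_pow_mul_and_not_dvd (orderOf_pos g).ne' q hq.ne_one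
  refine ⟨m, ?_, a, ?_⟩
  · intro hmem
    have h2 : (QuotientGroup.mk g : G ⧸ N) ^ m = 1 := (QuotientGroup.eq_one_iff _).mpr hmem
    exact hm (hqd.trans (orderOf_dvd_of_pow_eq_one h2))
  · rw [← pow_mul, mul_comm, ← ho, pow_orderOf_eq_one]

theorem isPrimePow_of_forall {n p : ℕ} (hn : n ≠ 0) (hn1 : n ≠ 1) (hp : p.Prime)
    (h : ∀ r : ℕ, r.Prime → r ∣ n → r = p) : IsPrimePow n := by
  have h1 := Nat.eq_prime_pow_of_unique_prime_dvd hn (fun {d} hd hdn => h d hd hdn)
  rw [h1]
  apply hp.isPrimePow.pow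
  intro h0
  rw [h0, pow_zero] at h1
  exact hn1 h1

/-- **Camina's theorem**: a Camina pair `(G, N)` is a Frobenius group with kernel `N`, or `N` has prime
power order, or `G / N` has. -/
theorem IsCam.trichotomy {G : Type u} [Group G] [Finite G] {N : Subgroup G} [N.Normal] (h : IsCam N)
    (hN1 : N ≠ ⊥) (hN2 : N ≠ ⊤) :
    (∀ x ∈ N, x ≠ 1 → centralizer ({x} : Set G) ≤ N) ∨ IsPrimePow (Nat.card N) ∨
      IsPrimePow N.index := by
  by_cases hcop : (Nat.card N).Coprime N.index
  · left
    intro x hx hx1 g hg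
    by_contra hgN
    rw [Subgroup.mem_centralizer_singleton_iff] at hg
    obtain ⟨q, hq, hqi, m, hm, k, hk⟩ := exists_prime_pow hgN
    obtain ⟨j, hj⟩ := h.pow_eq_one_of_commute hq hm hk hx ((Commute.pow_left hg m))
    apply hx1
    have h1 : orderOf x ∣ q ^ j := orderOf_dvd_of_pow_eq_one hj
    have h2 : orderOf x ∣ Nat.card N := by
      rw [← Subgroup.orderOf_mk x hx]; exact orderOf_dvd_natCard _
    have h3 : (Nat.card N).Coprime (q ^ j) := Nat.Coprime.pow_right _ (hcop.coprime_dvd_right hqi)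
    exact orderOf_eq_one_iff.mp (Nat.eq_one_of_dvd_coprimes h3 h2 h1)
  · right
    obtain ⟨p, hp, hpn, hpN⟩ := Nat.Prime.not_coprime_iff_dvd.mp hcop
    have : Fact p.Prime := ⟨hp⟩
    by_cases hall : ∀ r : ℕ, r.Prime → r ∣ N.index → r = p
    · right
      refine isPrimePow_of_forall Subgroup.index_ne_zero_of_finite ?_ hp hall
      rwa [Ne, Subgroup.index_eq_one]
    · left
      push Not at hall
      obtain ⟨q, hq, hqN, hqp⟩ := hall
      have : Fact q.Prime := ⟨hq⟩
      have hNcard : Nat.card N ≠ 1 := by rwa [Ne, Subgroup.card_eq_one]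
      have hqn : ¬ q ∣ Nat.card N := by
        intro hqn
        obtain ⟨Mp, hMpn, hMpN, hMpc, hMpp⟩ := exists_normal_complement (h.hasNormalPComplement hpN)
        obtain ⟨Mq, hMqn, hMqN, hMqc, hMqp⟩ := exists_normal_complement (h.hasNormalPComplement hqN)
        set M := Mp ⊓ Mq with hM
        have hMn : M.Normal := Subgroup.normal_inf_normal Mp Mq
        have hMN : M ≤ N := inf_le_left.trans hMpN
        set N' : Subgroup (G ⧸ M) := N.map (QuotientGroup.mk' M) with hN'
        have hN'n : N'.Normal := Subgroup.Normal.map inferInstance _ (QuotientGroup.mk'_surjective M)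
        have hcomap : N'.comap (QuotientGroup.mk' M) = N := by
          rw [hN', Subgroup.comap_map_eq, QuotientGroup.ker_mk']
          exact sup_eq_left.mpr hMN
        have hidx : N'.index = N.index := by
          rw [← hcomap]
          exact (Subgroup.index_comap_of_surjective _ (QuotientGroup.mk'_surjective M)).symm
        have h' : IsCam N' := by
          intro g hg n hn
          obtain ⟨g, rfl⟩ := QuotientGroup.mk'_surjective M g
          obtain ⟨n, hn, rfl⟩ := hn
          have hgN : g ∉ N := fun hgN => hg (Subgroup.mem_map_of_mem _ hgN)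
          obtain ⟨x, hx⟩ := h g hgN n hn
          refine ⟨QuotientGroup.mk' M x, ?_⟩
          rw [← map_mul, ← map_inv, ← map_mul, hx, map_mul]
        have hnil : Group.IsNilpotent N' := by
          let A := N.map (QuotientGroup.mk' Mp)
          let B := N.map (QuotientGroup.mk' Mq)
          have hA : Group.IsNilpotent A := (isPGroup_map hMpp).isNilpotent
          have hB : Group.IsNilpotent B := (isPGroup_map hMqp).isNilpotent
          let f1 : N' →* A := ((QuotientGroup.map M Mp (MonoidHom.id G) (inf_le_left)).comp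
            N'.subtype).codRestrict A (by
              rintro ⟨_, ⟨y, hy, rfl⟩⟩
              exact ⟨y, hy, rfl⟩)
          let f2 : N' →* B := ((QuotientGroup.map M Mq (MonoidHom.id G) (inf_le_right)).comp
            N'.subtype).codRestrict B (by
              rintro ⟨_, ⟨y, hy, rfl⟩⟩
              exact ⟨y, hy, rfl⟩)
          have hinj : Function.Injective (f1.prod f2) := by
            rw [injective_iff_map_eq_one]
            rintro ⟨_, ⟨y, hy, rfl⟩⟩ h1
            rw [MonoidHom.prod_apply, Prod.mk_eq_one] at h1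
            apply Subtype.ext
            show QuotientGroup.mk' M y = 1
            apply (QuotientGroup.eq_one_iff _).mpr
            refine ⟨?_, ?_⟩
            · have h2 : (QuotientGroup.mk' Mp y) = 1 := congrArg Subtype.val h1.1
              exact (QuotientGroup.eq_one_iff _).mp h2
            · have h2 : (QuotientGroup.mk' Mq y) = 1 := congrArg Subtype.val h1.2
              exact (QuotientGroup.eq_one_iff _).mp h2
          exact Group.nilpotent_of_mulEquiv (MonoidHom.ofInjective hinj).symm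
        have hpM : (Nat.card M).Coprime p := hMpc.coprime_dvd_left (Subgroup.card_dvd_of_le inf_le_left)
        have hqM : (Nat.card M).Coprime q := hMqc.coprime_dvd_left (Subgroup.card_dvd_of_le inf_le_right)
        exact hqp (h'.isPGroup_of_isNilpotent hnil (p := p) (dvd_card_map hpn hpM)
          (by rw [hidx]; exact hpN) q hq (dvd_card_map hqn hqM))
      have hnil := h.isNilpotent_of_not_dvd hqN hqn
      exact isPrimePow_of_forall Nat.card_pos.ne' hNcard hp
        (h.isPGroup_of_isNilpotent hnil hpn hpN)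

end Cfsg.Agent.H527.Camina
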