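import Mathlib
import Cfsg.Agent.Lib.MinNormal

/-!
# S4164: the chief factor is abelian (helper527)

* `NRow p K` : for every automorphism `α` of order `p` (`p` a prime not dividing `|K|`) there are two elements of
  different orders which are not `K`-conjugate to fixed points of `α`;
* `lemE` : a non-abelian minimal normal `p'`-subgroup `V`, `Y = V C_Y(Q)`, `Q` an abelian `p`-subgroup not centralising
  `V`: then there are two elements of `V` of different orders without `V`-conjugates in `C_Y(Q)`, provided that the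
  simple factors of `V` satisfy `NRow`.
-/

set_option autoImplicit false
set_option linter.unusedSectionVars false

namespace Cfsg.Agent.H527.OC

open Subgroup

/-- Two elements of different orders not `K`-conjugate to fixed points of `α`. -/
def NRow (p : ℕ) (K : Type*) [Group K] : Prop :=
  ¬ p ∣ Nat.card K → ∀ α : MulAut K, orderOf α = p → ∃ a b : K,
    (∀ g : K, α (g * a * g⁻¹) ≠ g * a * g⁻¹) ∧ (∀ g : K, α (g * b * g⁻¹) ≠ g * b * g⁻¹) ∧ orderOf a ≠ orderOf b

variable {Y : Type*} [Group Y] [Finite Y] {p : ℕ} [Fact p.Prime]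

/-- A simple group all of whose nontrivial elements have the same order is abelian. -/
theorem comm_of_same_order {T : Type*} [Group T] [Finite T] [IsSimpleGroup T] (h : ∀ a b : T, a ≠ 1 → b ≠ 1 →
    orderOf a = orderOf b) : ∀ a b : T, a * b = b * a := by
  have hc1 : Nat.card T ≠ 1 := by
    intro h1
    have := (Nat.card_eq_one_iff_unique.1 h1).1
    exact not_subsingleton T this
  obtain ⟨s, hs, hsd⟩ := Nat.exists_prime_and_dvd hc1
  have : Fact s.Prime := ⟨hs⟩
  obtain ⟨x, hx⟩ := exists_prime_orderOf_dvd_card' (G := T) s hsd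
  have hx1 : x ≠ 1 := by
    rintro rfl
    rw [orderOf_one] at hx
    exact hs.one_lt.ne hx
  have hT : IsPGroup s T := by
    intro g
    by_cases hg : g = 1
    · exact ⟨0, by simp [hg]⟩
    · refine ⟨1, ?_⟩
      rw [pow_one, ← hx, ← h g x hg hx1, pow_orderOf_eq_one]
  have hnt := hT.center_nontrivial
  have hct : center T = ⊤ := by
    rcases (inferInstance : (center T).Normal).eq_bot_or_eq_top with h1 | h1
    · exact absurd h1 ((Subgroup.nontrivial_iff_ne_bot _).1 hnt)
    · exact h1
  intro a b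
  have : b ∈ center T := by rw [hct]; trivial
  exact Subgroup.mem_center_iff.1 this a

theorem lemE (V Q : Subgroup Y) [V.Normal] (hV : V ≠ ⊥)
    (hmin : ∀ M : Subgroup Y, M.Normal → M ≤ V → M = ⊥ ∨ M = V) (hna : ¬ ∀ a ∈ V, ∀ b ∈ V, a * b = b * a)
    (hQ : IsPGroup p Q) (hpV : ¬ p ∣ Nat.card V)
    (hsup : ∀ g : Y, ∃ n ∈ V, ∃ c ∈ centralizer (Q : Set Y), n * c = g) (hnc : ¬ V ≤ centralizer (Q : Set Y))
    (hord : ∀ a ∈ V, ∀ b ∈ V, (∀ n ∈ V, n * a * n⁻¹ ∉ centralizer (Q : Set Y)) →
      (∀ n ∈ V, n * b * n⁻¹ ∉ centralizer (Q : Set Y)) → orderOf a = orderOf b)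
    (hrow : ∀ T : Subgroup Y, IsSimpleGroup T → (¬ ∀ a b : T, a * b = b * a) → NRow p T) : False := by
  classical
  have hp : p.Prime := Fact.out
  obtain ⟨T₀, s, -, hsr, ⟨T, hTs⟩, -, -, hs⟩ := Lib.MinNormal.exists_set_decomposition V hV hmin
  obtain ⟨hTV, hT0, hVT, hTmin, hTsimple⟩ := hs T hTs
  have hsup' := Lib.MinNormal.sSup_conjugates hmin hTV hT0
  have hcV : ∀ g : Y, T.map (MulAut.conj g).toMonoidHom ≤ V := fun g => by
    rw [← Lib.MinNormal.map_conj_normal g V]
    exact Subgroup.map_mono hTV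
  have hcn : ∀ g : Y, V ≤ normalizer ((T.map (MulAut.conj g).toMonoidHom : Subgroup Y) : Set Y) :=
    Lib.MinNormal.le_normalizer_map_conj hVT
  -- conjugates of `T` are equal to `T` or meet `T` trivially
  have hTI : ∀ g : Y, T.map (MulAut.conj g).toMonoidHom = T ∨ T.map (MulAut.conj g).toMonoidHom ⊓ T = ⊥ := by
    intro g
    rcases hTmin _ (inf_le_right : T.map (MulAut.conj g).toMonoidHom ⊓ T ≤ T)
      (Lib.MinNormal.le_normalizer_inf (hcn g) hVT) with h | h
    · exact Or.inr h
    · left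
      have h1 : T ≤ T.map (MulAut.conj g).toMonoidHom := inf_eq_right.1 h
      refine (Subgroup.eq_of_le_of_card_ge h1 ?_).symm
      rw [Subgroup.card_map_of_injective (MulAut.conj g).injective]
  have hcomm : ∀ g : Y, T.map (MulAut.conj g).toMonoidHom ≠ T →
      T.map (MulAut.conj g).toMonoidHom ≤ centralizer (T : Set Y) := by
    intro g hg x hx
    rw [Subgroup.mem_centralizer_iff]
    intro t ht
    have h1 : Disjoint T (T.map (MulAut.conj g).toMonoidHom) := by
      rw [disjoint_comm, disjoint_iff]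
      exact (hTI g).resolve_left hg
    exact (Lib.MinNormal.commute_of_disjoint (hTV.trans (hcn g)) ((hcV g).trans hVT) h1 ht hx).eq
  -- `V = T C_V(T)`
  have hTC : ∀ v ∈ V, ∃ t ∈ T, ∃ k ∈ centralizer (T : Set Y), t * k = v := by
    have h1 : V ≤ T ⊔ centralizer (T : Set Y) := by
      rw [← hsup', sSup_le_iff]
      rintro _ ⟨g, rfl⟩
      by_cases hg : T.map (MulAut.conj g).toMonoidHom = T
      · exact hg.le.trans le_sup_left
      · exact (hcomm g hg).trans le_sup_right
    have h2 : T ≤ normalizer ((centralizer (T : Set Y) : Subgroup Y) : Set Y) := by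
      intro t ht
      rw [Subgroup.mem_normalizer_iff]
      have key : ∀ (t : Y), t ∈ T → ∀ h : Y, h ∈ centralizer (T : Set Y) → t * h * t⁻¹ ∈ centralizer (T : Set Y) := by
        intro t ht h hh
        have h3 : t * h * t⁻¹ = h := by
          rw [(Subgroup.mem_centralizer_iff.1 hh t ht), mul_inv_cancel_right]
        rw [h3]
        exact hh
      intro h
      refine ⟨key t ht h, fun hh => ?_⟩
      have := key t⁻¹ (inv_mem ht) _ hh
      rwa [show t⁻¹ * (t * h * t⁻¹) * t⁻¹⁻¹ = h by group] at this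
    intro v hv
    have h3 := h1 hv
    have h4 : v ∈ ((T ⊔ centralizer (T : Set Y) : Subgroup Y) : Set Y) := h3
    rw [Subgroup.coe_mul_of_left_le_normalizer_right _ _ h2, Set.mem_mul] at h4
    exact h4
  -- `T` is not abelian
  have hTna : ¬ ∀ a b : T, a * b = b * a := by
    intro hab
    apply hna
    have h1 : V ≤ centralizer (T : Set Y) := by
      rw [← hsup', sSup_le_iff]
      rintro _ ⟨g, rfl⟩
      by_cases hg : T.map (MulAut.conj g).toMonoidHom = T
      · show T.map (MulAut.conj g).toMonoidHom ≤ _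
        rw [hg]
        intro t ht
        rw [Subgroup.mem_centralizer_iff]
        intro t' ht'
        exact congrArg Subtype.val (hab ⟨t', ht'⟩ ⟨t, ht⟩)
      · exact hcomm g hg
    have h2 : V ⊓ centralizer (V : Set Y) = V := by
      have hn : (centralizer (V : Set Y)).Normal := Subgroup.normal_centralizer
      rcases hmin (V ⊓ centralizer (V : Set Y)) inferInstance inf_le_left with h | h
      · exfalso
        apply hT0
        rw [eq_bot_iff, ← h]
        intro t ht
        refine Subgroup.mem_inf.2 ⟨hTV ht, ?_⟩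
        rw [Subgroup.mem_centralizer_iff]
        intro v hv
        exact (Subgroup.mem_centralizer_iff.1 (h1 hv) t ht).symm
      · exact h
    intro a ha b hb
    have hb' := inf_eq_left.1 h2 hb
    exact Subgroup.mem_centralizer_iff.1 hb' a ha
  by_cases hcase : ∃ y ∈ Q, T.map (MulAut.conj y).toMonoidHom ≠ T
  · -- all nontrivial elements of `T` are bad
    obtain ⟨y, hy, hyT⟩ := hcase
    have hbad : ∀ t ∈ T, t ≠ 1 → ∀ n ∈ V, n * t * n⁻¹ ∉ centralizer (Q : Set Y) := by
      intro t ht ht1 n hn hc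
      have h1 : n * t * n⁻¹ ∈ T := (Subgroup.mem_normalizer_iff.1 (hVT hn) t).1 ht
      have h2 : y * (n * t * n⁻¹) = (n * t * n⁻¹) * y := Subgroup.mem_centralizer_iff.1 hc y hy
      have h3 : n * t * n⁻¹ ∈ T.map (MulAut.conj y).toMonoidHom := by
        refine ⟨n * t * n⁻¹, h1, ?_⟩
        show y * (n * t * n⁻¹) * y⁻¹ = n * t * n⁻¹
        rw [h2, mul_inv_cancel_right]
      have h4 : n * t * n⁻¹ ∈ T.map (MulAut.conj y).toMonoidHom ⊓ T := Subgroup.mem_inf.2 ⟨h3, h1⟩
      rw [(hTI y).resolve_left hyT, Subgroup.mem_bot] at h4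
      apply ht1
      calc t = n⁻¹ * (n * t * n⁻¹) * n := by group
        _ = 1 := by rw [h4]; group
    apply hTna
    apply comm_of_same_order
    intro a b ha hb
    rw [← Subgroup.orderOf_coe a, ← Subgroup.orderOf_coe b]
    exact hord a (hTV a.2) b (hTV b.2) (hbad a a.2 (fun h => ha (Subtype.ext h)))
      (hbad b b.2 (fun h => hb (Subtype.ext h)))
  · push Not at hcase
    -- `Q` normalises `T`
    have hQT : Q ≤ normalizer (T : Set Y) := by
      intro y hy
      have h1 : ∀ z ∈ Q, ∀ t ∈ T, z * t * z⁻¹ ∈ T := by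
        intro z hz t ht
        have : z * t * z⁻¹ ∈ T.map (MulAut.conj z).toMonoidHom := ⟨t, ht, rfl⟩
        rwa [hcase z hz] at this
      rw [Subgroup.mem_normalizer_iff]
      intro t
      refine ⟨h1 y hy t, fun h => ?_⟩
      have := h1 y⁻¹ (inv_mem hy) _ h
      rwa [show y⁻¹ * (y * t * y⁻¹) * y⁻¹⁻¹ = t by group] at this
    let φ : Q →* MulAut T := (Subgroup.normalizerMonoidHom T).comp (Subgroup.inclusion hQT)
    have hφ : ∀ (y : Q) (t : T), ((φ y t : T) : Y) = y * t * (y : Y)⁻¹ := fun y t => rfl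
    -- `Q` does not centralise `T`
    obtain ⟨y, hy⟩ : ∃ y : Q, φ y ≠ 1 := by
      by_contra hcon
      push Not at hcon
      apply hnc
      rw [← hsup', sSup_le_iff]
      rintro _ ⟨g, rfl⟩
      obtain ⟨n, hn, c, hc, rfl⟩ := hsup g
      -- `T ^ (n c) = T ^ c`
      have h1 : T.map (MulAut.conj (n * c)).toMonoidHom = T.map (MulAut.conj c).toMonoidHom := by
        rw [← Lib.MinNormal.map_conj_map_conj]
        exact Subgroup.mem_normalizer_iff_map_conj_eq.1 (hcn c hn)
      show T.map (MulAut.conj (n * c)).toMonoidHom ≤ _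
      rw [h1]
      rintro _ ⟨t, ht, rfl⟩
      rw [Subgroup.mem_centralizer_iff]
      intro z hz
      show z * (c * t * c⁻¹) = c * t * c⁻¹ * z
      have h2 : z * c = c * z := Subgroup.mem_centralizer_iff.1 hc z hz
      have h3 : z * t = t * z := by
        have h4 := hφ ⟨z, hz⟩ ⟨t, ht⟩
        rw [hcon ⟨z, hz⟩] at h4
        change t = z * t * z⁻¹ at h4
        rw [eq_mul_inv_iff_mul_eq] at h4
        exact h4.symm
      have h5 : z * c⁻¹ = c⁻¹ * z := by
        rw [mul_inv_eq_iff_eq_mul, mul_assoc, h2, inv_mul_cancel_left]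
      calc z * (c * t * c⁻¹) = (z * c) * t * c⁻¹ := by group
        _ = c * (z * t) * c⁻¹ := by rw [h2]; group
        _ = c * t * (z * c⁻¹) := by rw [h3]; group
        _ = c * t * c⁻¹ * z := by rw [h5]; group
    -- an element of order `p`
    obtain ⟨y', hy'⟩ : ∃ y' : Q, orderOf (φ y') = p := by
      obtain ⟨k, hk⟩ := hQ y
      have h1 : orderOf (φ y) ∣ p ^ k := by
        apply orderOf_dvd_of_pow_eq_one
        rw [← map_pow, hk, map_one]
      obtain ⟨j, -, hj⟩ := (Nat.dvd_prime_pow hp).1 h1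
      have hj0 : j ≠ 0 := by
        rintro rfl
        rw [pow_zero, orderOf_eq_one_iff] at hj
        exact hy hj
      refine ⟨y ^ p ^ (j - 1), ?_⟩
      rw [map_pow, orderOf_pow' _ (pow_pos hp.pos _).ne', hj]
      have h2 : p ^ j = p ^ (j - 1) * p := by
        rw [← pow_succ, Nat.sub_add_cancel (Nat.pos_of_ne_zero hj0)]
      rw [h2, Nat.gcd_eq_right (dvd_mul_right _ _), Nat.mul_div_cancel_left _ (pow_pos hp.pos _)]
    have hpT : ¬ p ∣ Nat.card T := fun h => hpV (h.trans (Subgroup.card_dvd_of_le hTV))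
    obtain ⟨a, b, ha, hb, hab⟩ := hrow T hTsimple hTna hpT (φ y') hy'
    have hbad : ∀ a : T, (∀ g : T, φ y' (g * a * g⁻¹) ≠ g * a * g⁻¹) →
        ∀ n ∈ V, n * (a : Y) * n⁻¹ ∉ centralizer (Q : Set Y) := by
      intro a ha n hn hc
      obtain ⟨t, ht, k, hk, rfl⟩ := hTC n hn
      apply ha ⟨t, ht⟩
      apply Subtype.ext
      rw [hφ]
      show (y' : Y) * (t * a * t⁻¹) * (y' : Y)⁻¹ = t * a * t⁻¹
      have h1 : k * a = a * k := (Subgroup.mem_centralizer_iff.1 hk a a.2).symm
      have h2 : t * k * a * (t * k)⁻¹ = t * a * t⁻¹ := by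
        calc t * k * a * (t * k)⁻¹ = t * (k * a) * k⁻¹ * t⁻¹ := by group
          _ = t * a * t⁻¹ := by rw [h1]; group
      rw [h2] at hc
      rw [Subgroup.mem_centralizer_iff.1 hc y' y'.2, mul_inv_cancel_right]
    apply hab
    rw [← Subgroup.orderOf_coe a, ← Subgroup.orderOf_coe b]
    exact hord a (hTV a.2) b (hTV b.2) (hbad a ha) (hbad b hb)

end Cfsg.Agent.H527.OC
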