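import Mathlib
import Cfsg.Agent.H527.OneClassE
import Cfsg.Agent.H716.CopRow
import Cfsg.Agent.H531.RealMove
import Cfsg.Agent.Lib.Zsigmondy

/-!
# Two elements of different orders not conjugate to fixed points (helper527)

Tools for `NRow p K` (`Cfsg.Agent.H527.OC.NRow`): for every automorphism `α` of prime order `p ∤ |K|` there are two
elements of different orders which are not `K`-conjugate to fixed points of `α`.

* `bad_of_zpowers` : `α e ∈ ⟨e⟩`, `α e ≠ e`;
* `NRow.of_tRow` : from helper716's `TRow`;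
* `NRow.of_copTriv` : groups without coprime automorphisms;
* `NRow.of_field` : rank one groups: a torus element and an element of Zsigmondy order.
-/

set_option autoImplicit false
set_option linter.unusedSectionVars false

namespace Cfsg.Agent.H527.OC

open Subgroup Cfsg.Agent.H531 Cfsg.Agent.H254

universe u v

/-- no conjugate of `x` is fixed by `α` -/
def Bad {K : Type*} [Group K] (α : MulAut K) (x : K) : Prop := ∀ g : K, α (g * x * g⁻¹) ≠ g * x * g⁻¹

theorem bad_of_zpowers {K : Type*} [Group K] [Finite K] {p : ℕ} (hp : p.Prime) (hpK : ¬ p ∣ Nat.card K) {α : MulAut K}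
    (hα : α ^ p = 1) {e : K} (h1 : α e ∈ zpowers e) (h2 : α e ≠ e) : Bad α e := by
  intro g hg
  set w := (α g)⁻¹ * g with hw
  have h3 : α e = w * e * w⁻¹ := by
    rw [map_mul, map_mul, map_inv] at hg
    calc α e = (α g)⁻¹ * (α g * α e * (α g)⁻¹) * α g := by group
      _ = (α g)⁻¹ * (g * e * g⁻¹) * α g := by rw [hg]
      _ = w * e * w⁻¹ := by rw [hw]; group
  have h4 : ∀ n : ℕ, (α ^ n) e ∈ zpowers e ∧ (α ^ n) e = w ^ n * e * (w ^ n)⁻¹ := by
    intro n
    induction n with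
    | zero => exact ⟨by rw [pow_zero]; exact mem_zpowers e, by simp⟩
    | succ n ih =>
      obtain ⟨ih1, ih2⟩ := ih
      obtain ⟨k, hk⟩ := mem_zpowers_iff.1 ih1
      have h5 : (α ^ (n + 1)) e = (α e) ^ k := by
        rw [pow_succ', MulAut.mul_apply, ← hk, map_zpow]
      refine ⟨by rw [h5]; exact zpow_mem h1 k, ?_⟩
      rw [h5, h3, conj_zpow, hk, ih2, pow_succ']
      group
  have h5 : (α ^ orderOf w) e = e := by
    rw [(h4 _).2, pow_orderOf_eq_one]
    group
  have h6 : p.Coprime (orderOf w) :=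
    (Nat.Prime.coprime_iff_not_dvd hp).2 (fun h => hpK (h.trans (orderOf_dvd_natCard w)))
  apply h2
  -- `α` is a power of `α ^ orderOf w`
  have h7 : (orderOf α).Coprime (orderOf w) := h6.coprime_dvd_left (orderOf_dvd_of_pow_eq_one hα)
  obtain ⟨m, hm⟩ := exists_pow_eq_self_of_coprime h7.symm
  rw [← hm]
  have h8 : ∀ j : ℕ, ((α ^ orderOf w) ^ j) e = e := by
    intro j
    induction j with
    | zero => simp
    | succ j ih => rw [pow_succ', MulAut.mul_apply, ih, h5]
  exact h8 m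

theorem Bad.of_mem_zpowers {K : Type*} [Group K] {α : MulAut K} {x e : K} (he : e ∈ zpowers x) (h : Bad α e) :
    Bad α x := by
  intro g hg
  obtain ⟨k, rfl⟩ := mem_zpowers_iff.1 he
  apply h g
  rw [← conj_zpow, map_zpow, hg]

theorem Bad.map {K : Type*} [Group K] {α g : MulAut K} {x : K} (h : Bad (g * α * g⁻¹) x) : Bad α (g⁻¹ x) := by
  intro k hk
  apply h (g k)
  have h1 : g⁻¹ (g k * x * (g k)⁻¹) = k * g⁻¹ x * k⁻¹ := by
    rw [map_mul, map_mul, map_inv, MulAut.inv_apply_self]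
  show g (α (g⁻¹ (g k * x * (g k)⁻¹))) = _
  rw [h1, hk, ← h1, MulAut.apply_inv_self]

theorem NRow.of_bad {K : Type*} [Group K] {p : ℕ} (h : ¬ p ∣ Nat.card K → ∀ α : MulAut K, orderOf α = p →
    ∃ a b : K, Bad α a ∧ Bad α b ∧ orderOf a ≠ orderOf b) : NRow p K :=
  fun hp α hα => h hp α hα

theorem NRow.of_tRow {K : Type*} [Group K] [Finite K] {r p : ℕ} (hr : r.Prime) (hp : p.Prime)
    (h : H716.CopRow.TRow r K) : NRow p K := by
  refine NRow.of_bad fun hpK α hα => ?_
  obtain ⟨e, u, hc, hru, hcop, h1, h2⟩ := h p hp hpK α hα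
  have hb : Bad α e := bad_of_zpowers hp hpK (hα ▸ pow_orderOf_eq_one α) h1 h2
  have ho : orderOf (e * u) = orderOf e * orderOf u := hc.orderOf_mul_eq_mul_orderOf_of_coprime hcop
  refine ⟨e, e * u, hb, ?_, ?_⟩
  · -- `e` is a power of `e u`
    refine Bad.of_mem_zpowers ?_ hb
    obtain ⟨m, hm⟩ := exists_pow_eq_self_of_coprime (x := e) (n := orderOf u) hcop.symm
    refine mem_zpowers_iff.2 ⟨(orderOf u * m : ℕ), ?_⟩
    rw [zpow_natCast, pow_mul, hc.mul_pow, pow_orderOf_eq_one u, mul_one, hm]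
  · rw [ho]
    intro h3
    have h4 : orderOf u = 1 := by
      have h5 : orderOf e * 1 = orderOf e * orderOf u := by rw [mul_one]; exact h3
      exact (Nat.eq_of_mul_eq_mul_left (orderOf_pos e) h5).symm
    rw [h4] at hru
    exact hr.one_lt.ne' (Nat.dvd_one.1 hru)

theorem NRow.congr {K : Type u} [Group K] {L : Type v} [Group L] {p : ℕ} (f : K ≃* L) (h : NRow p K) : NRow p L := by
  intro hp α hα
  obtain ⟨a, b, h1, h2, h3⟩ := h (by rw [Nat.card_congr f.toEquiv]; exact hp) ((MulAut.congr f).symm α)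
    (by rw [MulEquiv.orderOf_eq (MulAut.congr f).symm α]; exact hα)
  have key : ∀ a : K, (∀ g : K, (MulAut.congr f).symm α (g * a * g⁻¹) ≠ g * a * g⁻¹) →
      ∀ g : L, α (g * f a * g⁻¹) ≠ g * f a * g⁻¹ := by
    intro a ha g hg
    apply ha (f.symm g)
    show f.symm (α (f (f.symm g * a * (f.symm g)⁻¹))) = _
    rw [map_mul f, map_mul f, map_inv f, MulEquiv.apply_symm_apply, hg, map_mul, map_mul, map_inv,
      MulEquiv.symm_apply_apply]
  refine ⟨f a, f b, key a h1, key b h2, ?_⟩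
  rw [MulEquiv.orderOf_eq, MulEquiv.orderOf_eq]
  exact h3

theorem NRow.of_copTriv {K : Type*} [Group K] {p : ℕ} (hp : p.Prime) (h : CopTriv K) : NRow p K := by
  intro hpK α hα
  exfalso
  have h1 := h (zpowers α) (by
    rw [Nat.card_zpowers, hα]
    exact (Nat.Prime.coprime_iff_not_dvd hp).2 hpK)
  have h2 : α = 1 := by
    have := mem_zpowers α
    rw [h1, mem_bot] at this
    exact this
  rw [h2, orderOf_one] at hα
  exact hp.one_lt.ne hα

/-! ### Rank one groups -/

/-- Matrices with entries fixed by an automorphism of the field. -/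
theorem dvd_of_fixed {F : Type*} [Field F] [Finite F] {N : ℕ} (τ : F ≃+* F) (hN : orderOf τ = N) {n : ℕ}
    (M : Matrix.GeneralLinearGroup (Fin n) F) (hM : ∀ i j, τ ((M : Matrix (Fin n) (Fin n) F) i j) = M i j) :
    ∃ q₀ : ℕ, q₀ ^ N = Nat.card F ∧ ∀ l : ℕ, l.Prime → l ∣ orderOf M → ¬ l ∣ q₀ → ∃ i, 1 ≤ i ∧ i ≤ n ∧ l ∣ q₀ ^ i - 1 := by
  classical
  have : Fintype F := Fintype.ofFinite F
  let A := zpowers τ
  let F₀ := FixedPoints.subfield A F
  have hfix : ∀ x : F, τ x = x → x ∈ F₀ := by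
    intro x hx
    rintro ⟨σ, hσ⟩
    obtain ⟨k, rfl⟩ := mem_zpowers_iff.1 hσ
    show (τ ^ k) x = x
    have h1 : τ ∈ MulAction.stabilizer (F ≃+* F) x := hx
    exact zpow_mem h1 k
  have hFf : FaithfulSMul A F := by
    refine ⟨fun {a b} h => Subtype.ext (RingEquiv.ext fun x => h x)⟩
  have hfin : Finite (F ≃+* F) := Finite.of_injective (fun σ : F ≃+* F => (σ : F → F)) DFunLike.coe_injective
  have : Fintype A := Fintype.ofFinite A
  have hrank : Module.finrank F₀ F = N := by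
    rw [FixedPoints.finrank_eq_card A F, ← Nat.card_eq_fintype_card, Nat.card_zpowers, hN]
  have hcard : Nat.card F₀ ^ N = Nat.card F := by
    rw [← hrank]
    exact (Module.natCard_eq_pow_finrank (K := F₀) (V := F)).symm
  refine ⟨Nat.card F₀, hcard, ?_⟩
  intro l hl hlM hl0
  -- `M` over `F₀`
  let M₀ : Matrix (Fin n) (Fin n) F₀ := Matrix.of fun i j => ⟨M i j, hfix _ (hM i j)⟩
  have hM₀ : M₀.map (algebraMap F₀ F) = M := by
    ext i j
    rfl
  have hdet : M₀.det ≠ 0 := by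
    intro h
    have h1 : (M₀.map (algebraMap F₀ F)).det = 0 := by
      rw [← RingHom.mapMatrix_apply, ← RingHom.map_det, h, map_zero]
    rw [hM₀] at h1
    exact (Matrix.GeneralLinearGroup.det M).ne_zero h1
  let g : Matrix.GeneralLinearGroup (Fin n) F₀ := Matrix.GeneralLinearGroup.mkOfDetNeZero M₀ hdet
  have hg : Matrix.GeneralLinearGroup.map (algebraMap F₀ F) g = M := by
    apply Units.ext
    exact hM₀
  have hinj : Function.Injective (Matrix.GeneralLinearGroup.map (n := Fin n) (algebraMap F₀ F)) := by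
    intro a b hab
    apply Units.ext
    ext i j
    have h1 := congrArg (fun z : Matrix.GeneralLinearGroup (Fin n) F => (z : Matrix (Fin n) (Fin n) F) i j) hab
    exact congrArg Subtype.val (Subtype.ext h1 : (a : Matrix (Fin n) (Fin n) F₀) i j = (b : Matrix (Fin n) (Fin n) F₀) i j)
  have ho : orderOf g = orderOf M := by
    rw [← hg]
    exact (orderOf_injective _ hinj g).symm
  have hF₀ : Finite F₀ := inferInstance
  have : Fintype F₀ := Fintype.ofFinite F₀
  have hd : l ∣ Nat.card (Matrix.GeneralLinearGroup (Fin n) F₀) := by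
    rw [← ho] at hlM
    exact hlM.trans (orderOf_dvd_natCard g)
  rw [Matrix.card_GL_field] at hd
  obtain ⟨i, -, hi⟩ := (hl.prime.dvd_finsetProd_iff _).1 hd
  have h1 : Fintype.card F₀ ^ n - Fintype.card F₀ ^ (i : ℕ) =
      Fintype.card F₀ ^ (i : ℕ) * (Fintype.card F₀ ^ (n - i) - 1) := by
    rw [Nat.mul_sub, mul_one, ← pow_add]
    congr 2
    have := i.2
    omega
  rw [h1] at hi
  rw [Nat.card_eq_fintype_card] at hl0 ⊢
  rcases hl.dvd_mul.1 hi with h2 | h2
  · exact absurd (hl.dvd_of_dvd_pow h2) hl0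
  · exact ⟨n - i, by have := i.2; omega, by omega, h2⟩

/-- **Criterion for rank one groups.** -/
theorem NRow.of_field {K : Type u} [Group K] [Finite K] {F : Type v} [Field F] [Finite F] {p : ℕ} (hp : p.Prime)
    (h2 : 2 ∣ Nat.card K) (φ : (F ≃+* F) →* MulAut K) (hco : FieldConj φ) (h : Fˣ →* K)
    (hφ : ∀ (τ : F ≃+* F) (u : Fˣ), φ τ (h u) = h (Units.map (τ : F →* F) u))
    (hker : ∀ u : Fˣ, h u = 1 → u ^ 2 = 1) {r a m n : ℕ} (hr : r.Prime) (hF : Nat.card F = r ^ a) (hm : 2 ≤ m)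
    (hma : p ∣ a → ¬ p ∣ Nat.card K → 7 ≤ m * a ∧ n < m * p)
    (fix : ∀ (τ : F ≃+* F) (g : K) (l : ℕ), l.Prime → l ≠ 2 → orderOf g = l → φ τ g = g →
      ∃ M : Matrix.GeneralLinearGroup (Fin n) F, l ∣ orderOf M ∧ ∀ i j, τ ((M : Matrix (Fin n) (Fin n) F) i j) = M i j)
    (hcard : ∀ l : ℕ, l.Prime → (∀ k, l ∣ r ^ k - 1 ↔ m * a ∣ k) → l ∣ Nat.card K) : NRow p K := by
  refine NRow.of_bad fun hpK α hα => ?_
  obtain ⟨g, τ, hg⟩ := hco α (by rw [hα]; exact (Nat.Prime.coprime_iff_not_dvd hp).2 hpK)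
  have hp2 : p ≠ 2 := fun h => hpK (h ▸ h2)
  have hφo : orderOf (φ τ) = p := by
    rw [← hg, ← hα]
    exact MulEquiv.orderOf_eq (MulAut.conj g) α
  have hfin : Finite (F ≃+* F) := Finite.of_injective (fun σ : F ≃+* F => (σ : F → F)) DFunLike.coe_injective
  set N := orderOf τ with hN
  have hN0 : 0 < N := orderOf_pos τ
  have hpN : p ∣ N := by
    rw [← hφo]
    exact orderOf_map_dvd φ τ
  have ha0 : a ≠ 0 := by
    rintro rfl
    rw [pow_zero] at hF
    have := (Nat.card_eq_one_iff_unique.1 hF).1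
    exact not_subsingleton F this
  -- orders of fixed matrices
  have hNa : N ∣ a ∧ ∀ (M : Matrix.GeneralLinearGroup (Fin n) F), (∀ i j, τ ((M : Matrix (Fin n) (Fin n) F) i j) = M i j) →
      ∀ l : ℕ, l.Prime → l ∣ orderOf M → ¬ l ∣ r → ∃ b i, b * N = a ∧ 1 ≤ i ∧ i ≤ n ∧ l ∣ r ^ (b * i) - 1 := by
    have key : ∀ q₀ : ℕ, q₀ ^ N = Nat.card F → ∃ b, q₀ = r ^ b ∧ b * N = a := by
      intro q₀ hq₀
      rw [hF] at hq₀
      obtain ⟨b, -, rfl⟩ := (Nat.dvd_prime_pow hr).1 (hq₀ ▸ dvd_pow_self q₀ hN0.ne')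
      refine ⟨b, rfl, ?_⟩
      rw [← pow_mul] at hq₀
      exact Nat.pow_right_injective hr.two_le hq₀
    constructor
    · obtain ⟨q₀, hq₀, -⟩ := dvd_of_fixed τ hN.symm (1 : Matrix.GeneralLinearGroup (Fin n) F) (fun i j => by
        show τ ((1 : Matrix (Fin n) (Fin n) F) i j) = (1 : Matrix (Fin n) (Fin n) F) i j
        rw [Matrix.one_apply]
        split_ifs <;> simp)
      obtain ⟨b, -, hb⟩ := key q₀ hq₀
      exact ⟨b, by rw [← hb]; ring⟩
    · intro M hM l hl hlM hlr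
      obtain ⟨q₀, hq₀, hq⟩ := dvd_of_fixed τ hN.symm M hM
      obtain ⟨b, rfl, hb⟩ := key q₀ hq₀
      obtain ⟨i, h1, h2, h3⟩ := hq l hl hlM (fun h => hlr (hl.dvd_of_dvd_pow h))
      exact ⟨b, i, hb, h1, h2, by rwa [pow_mul]⟩
  obtain ⟨hNa, hfixM⟩ := hNa
  obtain ⟨hma7, hnmp⟩ := hma (hpN.trans hNa) hpK
  -- the Zsigmondy prime
  obtain ⟨l, hl, hdiv, hl1, hlr⟩ := Lib.Zsigmondy.exists_primitive (a := r) (n := m * a) hr.two_le (by omega)
    (fun h => by omega) (fun h => by omega)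
  have hl2 : l ≠ 2 := by
    rintro rfl
    have := Nat.le_of_dvd (by norm_num) hl1
    omega
  have : Fact l.Prime := ⟨hl⟩
  obtain ⟨y, hy⟩ := exists_prime_orderOf_dvd_card' (G := K) l (hcard l hl hdiv)
  have hbady : Bad (φ τ) y := by
    intro k hk
    obtain ⟨M, hM1, hM2⟩ := fix τ (k * y * k⁻¹) l hl hl2 (by
      rw [← hy]
      exact MulEquiv.orderOf_eq (MulAut.conj k) y) hk
    obtain ⟨b, i, hb, hi1, hi2, hi3⟩ := hfixM M hM2 l hl hM1 hlr
    rw [hdiv] at hi3
    have hb0 : 0 < b := by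
      rcases Nat.eq_zero_or_pos b with h | h
      · rw [h, zero_mul] at hb
        exact absurd hb.symm ha0
      · exact h
    have h3 := Nat.le_of_dvd (Nat.mul_pos hb0 hi1) hi3
    have h4 : b * i ≤ b * n := Nat.mul_le_mul_left b hi2
    have h5 : m * p ≤ m * N := Nat.mul_le_mul_left m (Nat.le_of_dvd hN0 hpN)
    have h6 : b * (m * N) ≤ b * n := by
      calc b * (m * N) = m * (b * N) := by ring
        _ = m * a := by rw [hb]
        _ ≤ b * n := h3.trans h4
    have h7 := Nat.le_of_mul_le_mul_left h6 hb0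
    omega
  -- the torus element
  obtain ⟨u, hu⟩ := IsCyclic.exists_generator (α := Fˣ)
  obtain ⟨k, hk⟩ := MonoidHom.map_cyclic (Units.map (τ : F →* F))
  have h3 : φ τ (h u) = h u ^ k := by rw [hφ, hk u, map_zpow]
  have h4 : φ τ (h u) ≠ h u := by
    intro h4
    have h5 : (u ^ (k - 1)) ^ 2 = 1 := by
      apply hker
      rw [map_zpow, zpow_sub_one, ← h3, h4, mul_inv_cancel]
    have h7 : τ (u : F) = (u : F) * ((u ^ (k - 1) : Fˣ) : F) := by
      have h8 := congrArg Units.val (hk u)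
      have h9 : u ^ k = u * u ^ (k - 1) := by
        rw [zpow_sub_one, mul_comm, inv_mul_cancel_right]
      rw [h9] at h8
      exact h8
    have h10 : ((u ^ (k - 1) : Fˣ) : F) ^ 2 = 1 := by
      have := congrArg (fun z : Fˣ => (z : F)) h5
      simpa using this
    have h11 : τ (τ (u : F)) = (u : F) := by
      have h12 : τ ((u ^ (k - 1) : Fˣ) : F) = ((u ^ (k - 1) : Fˣ) : F) := by
        rcases (sq_eq_one_iff.1 h10) with h | h
        · rw [h, map_one]
        · rw [h, map_neg, map_one]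
      rw [h7, map_mul, h12, h7, mul_assoc, ← sq, h10, mul_one]
    have h12 : τ ^ 2 = 1 := by
      apply RingEquiv.ext
      intro x
      show (τ ^ 2) x = x
      rcases eq_or_ne x 0 with hx | hx
      · rw [hx, map_zero]
      · obtain ⟨j, hj⟩ := mem_zpowers_iff.1 (hu (Units.mk0 x hx))
        have h13 : Units.map ((τ ^ 2 : F ≃+* F) : F →* F) u = u := Units.ext h11
        have h14 : Units.map ((τ ^ 2 : F ≃+* F) : F →* F) (u ^ j) = u ^ j := by
          rw [map_zpow, h13]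
        rw [hj] at h14
        exact congrArg Units.val h14
    have h13 : (φ τ) ^ 2 = 1 := by rw [← map_pow, h12, map_one]
    have h14 := orderOf_dvd_of_pow_eq_one h13
    rw [hφo] at h14
    exact hp2 ((Nat.prime_dvd_prime_iff_eq hp Nat.prime_two).1 h14)
  have hbade : Bad (φ τ) (h u) :=
    bad_of_zpowers hp hpK (hφo ▸ pow_orderOf_eq_one (φ τ)) (by rw [h3]; exact zpow_mem (mem_zpowers _) k) h4
  have hne : orderOf (h u) ≠ orderOf y := by
    rw [hy]
    intro he
    have h5 : l ∣ r ^ a - 1 := by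
      rw [← he]
      have h6 : orderOf (h u) ∣ orderOf u := orderOf_map_dvd h u
      have h7 : orderOf u ∣ Nat.card Fˣ := orderOf_dvd_natCard u
      rw [Nat.card_units, hF] at h7
      exact h6.trans h7
    rw [hdiv] at h5
    have h6 := Nat.le_of_dvd (Nat.pos_of_ne_zero ha0) h5
    have h7 : 2 * a ≤ m * a := Nat.mul_le_mul_right a hm
    omega
  -- transport
  refine ⟨g⁻¹ (h u), g⁻¹ y, Bad.map (by rw [hg]; exact hbade), Bad.map (by rw [hg]; exact hbady), ?_⟩
  rw [MulEquiv.orderOf_eq (g⁻¹ : MulAut K), MulEquiv.orderOf_eq (g⁻¹ : MulAut K)]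
  exact hne

end Cfsg.Agent.H527.OC
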