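import Mathlib
import Cfsg.Prelude.Def_Classification2
import Cfsg.Prelude.Def_LieTypeChar
import Cfsg.Agent.S0205
import Cfsg.Agent.S0254
import Cfsg.Agent.H254.CopAlt
import Cfsg.Agent.H254.CopSpor
import Cfsg.Agent.H527.NRowOne
import Cfsg.Agent.H164.TRowPSL
import Cfsg.Agent.H164.TRowPSp
import Cfsg.Agent.H164.TRowExc
import Cfsg.Agent.H471.TRowPSU
import Cfsg.Agent.H989.TRowOrth
import Cfsg.Agent.H680.TRowTw
import Cfsg.Agent.H60.TRowTwF4

/-!
# `NRow` for the known simple groups (helper527)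

`nRow` : a known non-abelian finite simple group `K` satisfies `NRow p K` for every prime `p`: an automorphism of order
`p`, `p ∤ |K|`, has two elements of different orders no conjugates of which it fixes.
-/

set_option autoImplicit false

namespace Cfsg.Agent.H527.OC

open Cfsg

universe u v

/-- A finite non-abelian simple group has even order. -/
theorem NRow.two_dvd (K : Type u) [Group K] [Finite K] [IsSimpleGroup K] (hna : ¬ IsMulCommutative K) :
    2 ∣ Nat.card K := by
  by_contra h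
  have hodd : Odd (Nat.card K) := by
    rw [← Nat.not_even_iff_odd, even_iff_two_dvd]
    exact h
  have hs := S0205.result hodd
  apply hna
  refine ⟨⟨fun a b => ?_⟩⟩
  exact (IsSimpleGroup.comm_iff_isSolvable.2 hs) a b

/-- Transport from a model. -/
theorem NRow.of_model {M : Type v} [Group M] {p : ℕ}
    (h : Finite M → IsSimpleGroup M → ¬ IsMulCommutative M → 2 ∣ Nat.card M → NRow p M)
    (K : Type u) [Group K] [Finite K] [IsSimpleGroup K] (hK : ¬ IsMulCommutative K)
    (e : Nonempty (K ≃* M)) : NRow p K := by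
  obtain ⟨e⟩ := e
  have h1 : Finite M := Finite.of_equiv K e.toEquiv
  have hsm : IsSimpleGroup M := e.symm.isSimpleGroup
  have hna : ¬ IsMulCommutative M := by
    intro hc
    apply hK
    refine ⟨⟨fun a b => e.injective ?_⟩⟩
    rw [map_mul, map_mul]
    exact hc.is_comm.comm _ _
  exact NRow.congr e.symm (h h1 hsm hna (by rw [← Nat.card_congr e.toEquiv]; exact NRow.two_dvd K hK))

theorem nRow_alternating {p : ℕ} (hp : p.Prime) (K : Type u) [Group K] [Finite K] [IsSimpleGroup K]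
    (hK : ¬ IsMulCommutative K) (h : IsAlternating K) : NRow p K := by
  obtain ⟨n, hn, ⟨e⟩⟩ := h
  by_cases h6 : n = 6
  · subst h6
    haveI : Fact (Nat.Prime 3) := ⟨Nat.prime_three⟩
    letI : Fintype (GaloisField 3 2) := Fintype.ofFinite _
    have hF : Fintype.card (GaloisField 3 2) = 9 := by
      rw [← Nat.card_eq_fintype_card, GaloisField.card 3 2 (by norm_num)]; norm_num
    obtain ⟨e'⟩ := S0254.result (F := GaloisField 3 2) hF
    exact NRow.of_model (M := Matrix.ProjectiveSpecialLinearGroup (Fin 2) (GaloisField 3 2))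
      (fun _ _ h3 h4 => nRow_psl2 (by omega) h3 h4 hp) K hK ⟨e.trans e'.symm⟩
  · exact NRow.of_copTriv hp ((H254.Alt.copTriv hn h6).of_equiv e.symm)

/-- The characteristic of a finite field, as a fact. -/
theorem exists_char (F : Type*) [Field F] [Finite F] : ∃ r : ℕ, Fact r.Prime ∧ CharP F r := by
  obtain ⟨r, hchar⟩ := CharP.exists F
  exact ⟨r, ⟨CharP.char_is_prime F r⟩, hchar⟩

/-- **`NRow` for the known non-abelian simple groups.** -/
theorem nRow {p : ℕ} (hp : p.Prime) (K : Type u) [Group K] [Finite K] [IsSimpleGroup K]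
    (hna : ¬ IsMulCommutative K) (hk : IsKnownSimple' K) : NRow p K := by
  rcases hk with hk | hk | hk | hk | hk | hk | hk | hk | hk | hk
  · exfalso
    apply hna
    have h1 : Fact (Nat.card K).Prime := ⟨hk⟩
    have h2 : IsCyclic K := isCyclic_of_prime_card (p := Nat.card K) rfl
    exact IsCyclic.isMulCommutative
  · exact nRow_alternating hp K hna hk
  · obtain ⟨F, _, _, n, hn, h4, e⟩ := hk
    obtain ⟨r, hr, hc⟩ := exists_char F
    rcases eq_or_lt_of_le hn with h2 | h2
    · subst h2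
      exact NRow.of_model (fun _ _ h1 h2 => nRow_psl2 (h4 rfl) h1 h2 hp) K hna e
    · exact NRow.of_model (fun _ _ _ _ => NRow.of_tRow hr.out hp (H164.TRowPSL.tRow_psl h2)) K hna e
  · obtain ⟨F, _, _, m, hm, h3, e⟩ := hk
    obtain ⟨r, hr, hc⟩ := exists_char F
    exact NRow.of_model (fun _ _ _ _ => NRow.of_tRow hr.out hp (H164.TRowPSp.tRow_psp hm)) K hna e
  · obtain ⟨F, _, _, n, q, hF, hn, h32, e⟩ := hk
    obtain ⟨r, hr, hc⟩ := exists_char F
    exact NRow.of_model (fun _ _ _ _ => NRow.of_tRow hr.out hp (H471.TRowPSU.tRow_psu hF hn)) K hna e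
  · obtain ⟨F, _, _, m, hm, hodd, e⟩ := hk
    obtain ⟨r, hr, hc⟩ := exists_char F
    exact NRow.of_model (fun _ _ _ _ => NRow.of_tRow hr.out hp (H989.TRowOrth.tRow_po_odd hm hodd)) K hna e
  · obtain ⟨F, _, _, m, hm, e⟩ := hk
    obtain ⟨r, hr, hc⟩ := exists_char F
    exact NRow.of_model (fun _ _ _ _ => NRow.of_tRow hr.out hp (H989.TRowOrth.tRow_po_plus hm)) K hna e
  · obtain ⟨F, _, _, m, a, b, hm, hab, e⟩ := hk
    obtain ⟨r, hr, hc⟩ := exists_char F
    exact NRow.of_model (fun _ _ _ _ => NRow.of_tRow hr.out hp (H989.TRowOrth.tRow_po_minus hm a b hab)) K hna e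
  · rcases hk with hk | hk | hk | hk | hk | hk | hk | hk | hk | hk | hk
    · obtain ⟨F, _, _, h3, e⟩ := hk
      obtain ⟨r, hr, hc⟩ := exists_char F
      exact NRow.of_tRow hr.out hp (H164.TRowExc.tRow_exc ⟨F, inferInstance, inferInstance, hc, Or.inl ⟨h3, e⟩⟩)
    · obtain ⟨F, _, _, e⟩ := hk
      obtain ⟨r, hr, hc⟩ := exists_char F
      exact NRow.of_tRow hr.out hp (H164.TRowExc.tRow_exc ⟨F, inferInstance, inferInstance, hc, Or.inr (Or.inl e)⟩)
    · obtain ⟨F, _, _, e⟩ := hk
      obtain ⟨r, hr, hc⟩ := exists_char F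
      exact NRow.of_tRow hr.out hp (H164.TRowExc.tRow_exc ⟨F, inferInstance, inferInstance, hc, Or.inr (Or.inr (Or.inl e))⟩)
    · obtain ⟨F, _, _, e⟩ := hk
      obtain ⟨r, hr, hc⟩ := exists_char F
      exact NRow.of_tRow hr.out hp (H164.TRowExc.tRow_exc ⟨F, inferInstance, inferInstance, hc, Or.inr (Or.inr (Or.inr (Or.inl e)))⟩)
    · obtain ⟨F, _, _, e⟩ := hk
      obtain ⟨r, hr, hc⟩ := exists_char F
      exact NRow.of_tRow hr.out hp (H164.TRowExc.tRow_exc ⟨F, inferInstance, inferInstance, hc, Or.inr (Or.inr (Or.inr (Or.inr e)))⟩)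
    · obtain ⟨F, _, _, q, hq, hF, e⟩ := hk
      obtain ⟨r, hr, hc⟩ := exists_char F
      exact NRow.of_tRow hr.out hp (H680.TRowTw.tRow_tw ⟨F, inferInstance, inferInstance, hc, q, hq, Or.inl ⟨hF, e⟩⟩)
    · obtain ⟨F, _, _, q, hq, hF, e⟩ := hk
      obtain ⟨r, hr, hc⟩ := exists_char F
      exact NRow.of_tRow hr.out hp (H680.TRowTw.tRow_tw ⟨F, inferInstance, inferInstance, hc, q, hq, Or.inr ⟨hF, e⟩⟩)
    · obtain ⟨F, _, _, m, hm, hF, e⟩ := hk
      exact NRow.of_model (fun _ _ _ _ => nRow_sz hm hF hp) K hna e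
    · obtain ⟨F, _, _, m, hm, hF, e⟩ := hk
      exact NRow.of_model (fun _ _ _ _ => nRow_ree hm hF hp) K hna e
    · exact NRow.of_tRow Nat.prime_two hp (H60.TRowTwF4.tRow_tf4 hk)
    · exact NRow.of_copTriv hp (H254.CopSpor.tits_triv hk)
  · exact NRow.of_copTriv hp (H254.CopSpor.sporadic_triv hk)

end Cfsg.Agent.H527.OC
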